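import Mathlib
import Cfsg.Agent.Fus.Xs.Basic

/-! Linear algebra in `Q / Z(Q)` and automorphisms of the whole group. -/

set_option autoImplicit false
set_option linter.unusedSectionVars false

namespace Cfsg.Agent.Fus.Xs

open Subgroup Module Polynomial

variable {p : ℕ} [hp : Fact p.Prime] {G : Type*} [Group G] {V : Type*} [AddCommGroup V]
  [Module (ZMod p) V]

namespace XS

variable (X : XS p G V) {g s t x y q : G} {u v w : V}

theorem iso_ker2 (L L' : V →ₗ[ZMod p] ZMod p)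
    (h : ∀ u v, L u = 0 → L' u = 0 → L v = 0 → L' v = 0 → X.β u v = 0) : finrank (ZMod p) V = 4 := by
  have := X.fin
  have h1 := X.two_mul_le (LinearMap.ker (L.prod L')) fun u hu v hv =>
    h u v (congrArg Prod.fst hu) (congrArg Prod.snd hu) (congrArg Prod.fst hv) (congrArg Prod.snd hv)
  have h2 := (L.prod L').finrank_range_add_finrank_ker
  have h3 := Submodule.finrank_le (LinearMap.range (L.prod L'))
  have := X.big
  simp at h3
  omega

theorem iso_ker1 (L : V →ₗ[ZMod p] ZMod p) : ∃ u v, L u = 0 ∧ L v = 0 ∧ X.β u v ≠ 0 := by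
  have := X.fin
  by_contra! h
  have h1 := X.two_mul_le (LinearMap.ker L) fun u hu v hv => h u v hu hv
  have h2 := L.finrank_range_add_finrank_ker
  have h3 := Submodule.finrank_le (LinearMap.range L)
  have := X.big
  simp at h3
  omega

theorem exists_ker {P : V → Prop} (h : ∀ u v, P u → P v → X.β u v = 0) (L : V →ₗ[ZMod p] ZMod p) :
    ∃ v, L v = 0 ∧ ¬ P v := by
  obtain ⟨u, v, h1, h2, h3⟩ := X.iso_ker1 L
  by_contra! k
  exact h3 (h u v (k u h1) (k v h2))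

include X in
theorem binary {a b : ZMod p} (ha : a ≠ 0) (hb : b ≠ 0) (c : ZMod p) :
    ∃ x y : ZMod p, a * x ^ 2 + b * y ^ 2 = c := by
  obtain ⟨x, y, h⟩ := FiniteField.exists_root_sum_quadratic (f := C a * Polynomial.X ^ 2 - C c)
    (g := C b * Polynomial.X ^ 2) (by compute_degree!) (degree_C_mul_X_pow 2 hb)
    (by rw [ZMod.card]; exact Nat.odd_iff.1 (hp.out.odd_of_ne_two X.odd))
  exact ⟨x, y, by simp at h; linear_combination h⟩

theorem N_pow (g : G) : X.N g ^ finrank (ZMod p) V = 0 := by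
  have := X.fin
  rw [← LinearMap.ker_eq_top, ← top_le_iff]
  exact (LinearMap.ker_eq_top.2 (X.N_pow_p g)).ge.trans (Module.End.ker_pow_le_ker_pow_finrank _ p)

theorem eq_top (hs : s ∉ X.Q) {H : Subgroup G} (hz : X.z ∈ H) (h1 : s ∈ H) (h2 : X.sub H = ⊤) :
    H = ⊤ := eq_top_iff.2 fun g _ => by
  obtain ⟨q, hq, c, rfl⟩ := X.decomp hs g
  exact H.mul_mem ((X.bar_mem_sub hz hq).1 (h2 ▸ Submodule.mem_top)) (pw_mem h1 c)

omit X in
theorem coord4 (hn : finrank (ZMod p) V = 4) {a b c d : V}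
    (h : ∀ i j k l : ZMod p, i • a + j • b + k • c + l • d = 0 → i = 0 ∧ j = 0 ∧ k = 0 ∧ l = 0) (v : V) :
    ∃ i j k l : ZMod p, v = i • a + j • b + k • c + l • d := by
  have := LinearIndependent.span_eq_top_of_card_eq_finrank (K := ZMod p) (b := ![a, b, c, d])
    (Fintype.linearIndependent_iff.2 fun f e i => by
      have := h (f 0) (f 1) (f 2) (f 3) (by simpa [Fin.sum_univ_four] using e)
      fin_cases i <;> simp [this]) (by simp [hn])
  obtain ⟨f, e⟩ := (Submodule.mem_span_range_iff_exists_fun _).1 (this.ge (Submodule.mem_top (x := v)))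
  exact ⟨f 0, f 1, f 2, f 3, by simpa [Fin.sum_univ_four] using e.symm⟩

omit X in
theorem eq_top4 (hn : finrank (ZMod p) V = 4) {a b c d : V}
    (h : ∀ i j k l : ZMod p, i • a + j • b + k • c + l • d = 0 → i = 0 ∧ j = 0 ∧ k = 0 ∧ l = 0)
    {U : Submodule (ZMod p) V} (ha : a ∈ U) (hb : b ∈ U) (hc : c ∈ U) (hd : d ∈ U) : U = ⊤ :=
  eq_top_iff.2 fun v _ => by
    obtain ⟨i, j, k, l, rfl⟩ := coord4 hn h v
    exact add_mem (add_mem (add_mem (U.smul_mem _ ha) (U.smul_mem _ hb)) (U.smul_mem _ hc)) (U.smul_mem _ hd)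

theorem commute_of_bar (hx : x ∈ X.Q) (hy : y ∈ X.Q) (e : X.bar x = X.bar y) (h : Commute s x) :
    Commute s y := by
  obtain ⟨c, rfl⟩ := X.eq_of_bar hx hy e; exact h.mul_right (X.zc s c)

theorem adjust (hq : q ∈ X.Q) (hx : x ∈ X.Q) (h : X.N s (X.bar x) = 0)
    (hβ : X.β (X.bar q) (X.bar x) ≠ 0) : ∃ j : ZMod p, Commute (s * pw q j) x := by
  obtain ⟨c, e⟩ := X.eq_pz (X.cm_mem s x) ((X.bar_cm s hx).trans h)
  refine ⟨-c / X.β (X.bar q) (X.bar x), mul_inv_eq_iff_eq_mul.1 ?_⟩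
  rw [show ∀ a, s * a * x * (s * a)⁻¹ = s * (a * x * a⁻¹) * s⁻¹ from fun a => by group,
    X.comm _ (pw_mem hq _) x hx, X.bar_pw hq, ← mul_assoc, mul_assoc _ (pw _ _), ← (X.zc _ _).eq,
    ← mul_assoc, ← mul_cm, e, mul_assoc, ← pz_add]
  simp [hβ]

/-- The preimage in `Q` of a subspace. -/
def pre (U : Submodule (ZMod p) V) : Subgroup G where
  carrier := {x | x ∈ X.Q ∧ X.bar x ∈ U}
  one_mem' := ⟨X.Q.one_mem, X.bar_add.one ▸ U.zero_mem⟩
  mul_mem' h k := ⟨X.Q.mul_mem h.1 k.1, X.bar_mul h.1 k.1 ▸ U.add_mem h.2 k.2⟩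
  inv_mem' h := ⟨X.Q.inv_mem h.1, X.bar_inv h.1 ▸ U.neg_mem h.2⟩

theorem map_Z (τ : G ≃* G) : ∃ b : ZMod p, b ≠ 0 ∧ τ X.z = pw X.z b := by
  obtain ⟨b, e⟩ := X.mem_Z.1 (X.cen (τ X.z) fun g => by simpa using (X.z_comm (τ.symm g)).map τ)
  exact ⟨b, fun h => X.z_ne (by simpa [h] using e), e⟩

theorem map_pw (τ : G ≃* G) (x : G) (c : ZMod p) : τ (pw x c) = pw (τ x) c := map_pow τ x _

theorem map_Q (τ : G ≃* G) (h : ∀ L : V →ₗ[ZMod p] ZMod p, ∃ v, L v = 0 ∧ X.N s v ≠ 0)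
    (hq : q ∈ X.Q) : τ q ∈ X.Q := by
  have hZ : ∀ (σ : G ≃* G) (c : ZMod p), σ (pw X.z c) ∈ zpowers X.z := fun σ c => by
    obtain ⟨b, -, e⟩ := X.map_Z σ
    rw [map_pw, e]; exact pw_mem (pw_mem (mem_zpowers _) b) c
  obtain ⟨L, hL⟩ := exists_lin (p := p) X.bar_add X.bar_surj (f := fun x => X.lam (τ.symm x))
    (fun x _ y _ => by simp [lam_mul]) fun x hx e => by
      obtain ⟨c, rfl⟩ := X.eq_pz hx e
      exact X.lam_of_mem (X.Z_le (hZ _ c))
  obtain ⟨v, h1, h2⟩ := h L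
  obtain ⟨x, hx, rfl⟩ := X.bar_surj v
  refine by_contra fun k => h2 (X.N_eq_zero k ?_ s)
  have := hZ τ (X.β (X.bar q) (X.bar (τ.symm x)))
  rw [← X.cm_Q hq ((X.lam_eq_zero _).1 ((hL x hx).symm.trans h1))] at this
  rw [← X.bar_cm _ hx]
  exact X.bar_of_mem (by simpa [cm] using this)

theorem exists_bar_aut (τ : G ≃* G) (hQ : ∀ q ∈ X.Q, τ q ∈ X.Q) {b : ZMod p} (hb : τ X.z = pw X.z b) :
    ∃ T : Module.End (ZMod p) V, (∀ x ∈ X.Q, T (X.bar x) = X.bar (τ x)) ∧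
      (∀ u v, X.β (T u) (T v) = b * X.β u v) ∧ (∀ v, X.π (T v) = b * X.π v) ∧
      (∀ g v, T (X.ρ g v) = X.ρ (τ g) (T v)) ∧ Function.Surjective T := by
  have := X.fin
  have hz : ∀ c, τ (pw X.z c) = pw X.z (b * c) := fun c => by rw [map_pw, hb, pw_mul X.z_pow]
  obtain ⟨T, hT⟩ := exists_lin (p := p) X.bar_add X.bar_surj (f := fun x => X.bar (τ x))
    (fun x hx y hy => by simp only [map_mul, X.bar_mul (hQ x hx) (hQ y hy)]) fun x hx e => by
      obtain ⟨c, rfl⟩ := X.eq_pz hx e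
      simp only [hz, bar_pz]
  have h1 : ∀ u v, X.β (T u) (T v) = b * X.β u v := fun u v => by
    obtain ⟨x, hx, rfl⟩ := X.bar_surj u
    obtain ⟨y, hy, rfl⟩ := X.bar_surj v
    rw [hT x hx, hT y hy, ← X.pz_inj, ← hz, ← X.cm_Q hx hy, ← X.cm_Q (hQ x hx) (hQ y hy)]
    simp [cm]
  refine ⟨T, hT, h1, fun v => ?_, fun g v => ?_, LinearMap.injective_iff_surjective.1
    ((injective_iff_map_eq_zero T).2 fun v e => X.nondeg v fun u => ?_)⟩
  · obtain ⟨x, hx, rfl⟩ := X.bar_surj v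
    rw [hT x hx, ← X.pz_inj, ← hz, ← X.pow x hx, ← X.pow _ (hQ x hx), map_pow]
  · obtain ⟨x, hx, rfl⟩ := X.bar_surj v
    rw [← X.conj g x hx, hT x hx, hT _ (X.conj_mem g hx), ← X.conj _ _ (hQ x hx)]
    simp
  · refine (mul_eq_zero.1 (by rw [← h1, e, map_zero])).resolve_left fun k => X.z_ne ?_
    simpa [k] using hb

end XS

end Cfsg.Agent.Fus.Xs
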