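import Mathlib
import Cfsg.Agent.Fus.Xs.Rel
import Cfsg.Agent.Oct.Basic
import Cfsg.Agent.Loc.BHBasic

/-! Sylow subgroups of `G₂(p)` by generators and relations. -/

set_option autoImplicit false
set_option linter.unusedSectionVars false

namespace Cfsg.Agent.Fus.Xs

open Subgroup Matrix Cfsg.Lie Cfsg.Agent.Oct QuadraticMap

/-- The unit `1 + N`. -/
def iu (N : Matrix (Fin 8) (Fin 8) ℤ) (h : N * N * N = 0) : GL (Fin 8) ℤ :=
  ⟨1 + N, 1 - N + N * N, by linear_combination (norm := noncomm_ring) h,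
    by linear_combination (norm := noncomm_ring) h⟩

/-- A unipotent element. -/
def gs : GL (Fin 8) ℤ :=
  iu !![0, 0, -1, 0, 0, 0, 0, 0; 0, 0, 0, 0, 0, 0, 1, 0; 0, 0, 0, 0, 0, 0, 0, 0; 0, 0, 0, 0, -1, 0, 0, 0;
    0, 0, 0, 0, 0, 0, 0, 0; 1, 0, -1, 0, 0, 0, 0, -1; 0, 0, 0, 0, 0, 0, 0, 0; 0, 0, 1, 0, 0, 0, 0, 0] (by decide +kernel)

/-- A unipotent element. -/
def ga : GL (Fin 8) ℤ :=
  iu !![0, 0, 0, 0, 0, 0, 0, 0; 0, 0, 0, 0, 0, 0, 0, 0; 0, 0, 0, 1, 0, 0, 0, 0; 0, 0, 0, 0, 0, 0, 0, 0;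
    0, 0, 0, 0, 0, 0, 0, 0; 0, 0, 0, 0, 0, 0, 0, 0; 0, 0, 0, 0, 0, -1, 0, 0; 0, 0, 0, 0, 0, 0, 0, 0] (by decide +kernel)

/-- A unipotent element. -/
def gb : GL (Fin 8) ℤ :=
  iu !![0, 0, 0, -1, -1, 0, 0, 0; 1, 0, 1, 0, 0, -1, 0, -1; 0, 0, 0, 0, 1, 0, 0, 0; 0, 0, 0, 0, 0, 0, 0, 0;
    0, 0, 0, 0, 0, 0, 0, 0; 0, 0, 0, -1, -1, 0, 0, 0; 1, 0, 1, -1, -1, 0, 0, -1; 0, 0, 0, 1, 1, 0, 0, 0] (by decide +kernel)

/-- A unipotent element. -/
def gc : GL (Fin 8) ℤ :=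
  iu !![0, 0, 0, 0, -2, 0, 0, 0; 2, 0, 6, -3, -4, 0, 0, -2; 0, 0, 0, 0, 0, 0, 0, 0; 0, 0, 0, 0, 0, 0, 0, 0;
    0, 0, 0, 0, 0, 0, 0, 0; 0, 0, 0, -2, -6, 0, 0, 0; 0, 0, 2, 0, 3, 0, 0, 0; 0, 0, 0, 0, 2, 0, 0, 0] (by decide +kernel)

/-- A unipotent element. -/
def gd : GL (Fin 8) ℤ :=
  iu !![0, 0, 0, 0, 0, 0, 0, 0; 0, 0, 6, 0, 0, 0, 0, 0; 0, 0, 0, 0, 0, 0, 0, 0; 0, 0, 0, 0, 0, 0, 0, 0;
    0, 0, 0, 0, 0, 0, 0, 0; 0, 0, 0, 0, -6, 0, 0, 0; 0, 0, 0, 0, 0, 0, 0, 0; 0, 0, 0, 0, 0, 0, 0, 0] (by decide +kernel)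

/-- A unipotent element. -/
def gz : GL (Fin 8) ℤ :=
  iu !![0, 0, 0, 0, 0, 0, 0, 0; 0, 0, 0, -1, 0, 0, 0, 0; 0, 0, 0, 0, 0, 0, 0, 0; 0, 0, 0, 0, 0, 0, 0, 0;
    0, 0, 0, 0, 0, 0, 0, 0; 0, 0, 0, 0, 0, 0, 0, 0; 0, 0, 0, 0, 1, 0, 0, 0; 0, 0, 0, 0, 0, 0, 0, 0] (by decide +kernel)

/-- A unipotent element. -/
def gy : GL (Fin 8) ℤ :=
  iu !![0, 0, 0, 0, 0, 0, 0, 0; 0, 0, 0, -6, 0, 0, 0, 0; 0, 0, 0, 0, 0, 0, 0, 0; 0, 0, 0, 0, 0, 0, 0, 0;
    0, 0, 0, 0, 0, 0, 0, 0; 0, 0, 0, 0, 0, 0, 0, 0; 0, 0, 0, 0, 6, 0, 0, 0; 0, 0, 0, 0, 0, 0, 0, 0] (by decide +kernel)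

theorem gz_pow : gz ^ 6 = gy := by
  rw [show gz ^ 6 = gz * gz * gz * (gz * gz * gz) by simp [pow_succ, mul_assoc]]
  exact Units.ext (by decide +kernel)

theorem relG_int : RelG gs ga gb gc gd gz := by
  constructor <;> (try rw [gz_pow]) <;> exact Units.ext (by decide +kernel)

variable {p : ℕ} [hp : Fact p.Prime]

/-- Reduction modulo `p`. -/
def red (p : ℕ) : GL (Fin 8) ℤ →* GL (Fin 8) (ZMod p) := GeneralLinearGroup.map (Int.castRingHom _)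

theorem coe_red (g : GL (Fin 8) ℤ) : (red p g).val = g.val.map (Int.castRingHom _) := rfl

theorem red_pow (h3 : 3 ≤ p) (N : Matrix (Fin 8) (Fin 8) ℤ) (h : N * N * N = 0) :
    red p (iu N h) ^ p = 1 := by
  refine Units.ext ?_
  change (Int.castRingHom _).mapMatrix (1 + N) ^ p = 1
  rw [map_add, map_one, add_pow_char_of_commute _ (Commute.one_left _), one_pow, ← map_pow,
    pow_eq_zero_of_le h3 ((pow_three' N).trans h), map_zero, add_zero]

theorem red_mem {g : GL (Fin 8) ℤ} (h : ∀ i j, g.val *ᵥ zornMul (Pi.single i 1) (Pi.single j 1) =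
    zornMul (g.val.col i) (g.val.col j)) : red p g ∈ G2 (ZMod p) := by
  have k : ∀ x y : Fin 8 → ℤ, zm (ZMod p) (Int.castRingHom _ ∘ x) (Int.castRingHom _ ∘ y) =
      Int.castRingHom _ ∘ zornMul x y := fun x y => by
    ext i; fin_cases i <;> simp [zm_apply, zornMul, dot3, cross3]
  have h1 : (zm (ZMod p)).compr₂ (toLin' (red p g).val) =
      (zm (ZMod p)).compl₁₂ (toLin' (red p g).val) (toLin' (red p g).val) := by
    refine LinearMap.pi_ext' fun i => LinearMap.ext_ring (LinearMap.pi_ext' fun j => LinearMap.ext_ring ?_)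
    have e : ∀ i : Fin 8, (Pi.single i 1 : Fin 8 → ZMod p) = Int.castRingHom _ ∘ Pi.single i 1 :=
      fun i => by ext j; simp [Pi.single_apply]
    simp only [LinearMap.comp_apply, LinearMap.single_apply, LinearMap.compr₂_apply,
      LinearMap.compl₁₂_apply, toLin'_apply, mulVec_single_one]
    rw [e, e, k]
    exact ((funext (RingHom.map_mulVec _ _ _)).symm.trans (congrArg (Int.castRingHom _ ∘ ·) (h i j))).trans (k _ _).symm
  exact fun x y => LinearMap.congr_fun (LinearMap.congr_fun h1 x) y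

/-- The natural representation. -/
def nat (p : ℕ) [Fact p.Prime] : Representation (ZMod p) (G2 (ZMod p)) (Fin 8 → ZMod p) :=
  toLinAlgEquiv'.toMulEquiv.toMonoidHom.comp ((Units.coeHom _).comp (G2 (ZMod p)).subtype)

theorem nat_apply (g : G2 (ZMod p)) (v : Fin 8 → ZMod p) : nat p g v = g.1.val *ᵥ v := rfl

/-- Coordinate subspaces. -/
def co (l : List (Fin 8)) : Submodule (ZMod p) (Fin 8 → ZMod p) := Submodule.pi {i | i ∈ l} fun _ => ⊥

theorem mem_co {l : List (Fin 8)} {v : Fin 8 → ZMod p} : v ∈ co l ↔ ∀ i ∈ l, v i = 0 := Iff.rfl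

/-- Basis vectors. -/
def bv (i : Fin 8) : Fin 8 → ZMod p := Pi.single i 1

section Bound

variable {P : Subgroup (G2 (ZMod p))} {s a : G2 (ZMod p)} (g : G2 (ZMod p)) (x y : Fin 8 → ZMod p)

theorem nat_mul : nat p g (zm _ x y) = zm _ (nat p g x) (nat p g y) := g.2 x y

theorem nat_N : zN _ (nat p g x) = zN _ x := Comp.aut_N (g2Equiv _ g) x

theorem nat_polar : polar (zN _) (nat p g x) (nat p g y) = polar (zN _) x y :=
  Comp.aut_polar (g2Equiv _ g) x y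

theorem nat_tr : nat p g x 0 + nat p g x 7 = x 0 + x 7 := by
  have : polar (zN _) (nat p g x) _ = polar (zN _) x _ := (Comp.aut_N_trace (g2Equiv _ g) x).2
  simpa [polar_zN, zorn] using this

theorem fixed_mod (hP : IsPGroup p P) {U W : Submodule (ZMod p) (Fin 8 → ZMod p)}
    (hU : ∀ g ∈ P, ∀ v ∈ U, nat p g v ∈ U) (hW : ∀ g ∈ P, ∀ v ∈ W, nat p g v ∈ W) (h : ¬ U ≤ W) :
    ∃ u ∈ U, u ∉ W ∧ ∀ g ∈ P, nat p g u - u ∈ W :=
  Loc.BH.exists_fixed_mod hP (Loc.BH.le_stab_iff.2 hU) (Loc.BH.le_stab_iff.2 hW) h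

theorem nat_s (es : s.1 = red p gs) :
    nat p s x - x = ![-x 2, x 6, 0, -x 4, 0, x 0 - x 2 - x 7, 0, x 2] := by
  ext i; fin_cases i <;>
    simp [nat_apply, es, coe_red, gs, iu, mulVec, dotProduct, Fin.sum_univ_eight, one_apply]
  ring

theorem nat_a (ea : a.1 = red p ga) : nat p a x - x = ![0, 0, x 3, 0, 0, 0, -x 5, 0] := by
  ext i; fin_cases i <;>
    simp [nat_apply, ea, coe_red, ga, iu, mulVec, dotProduct, Fin.sum_univ_eight, one_apply]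

variable {g x y}

theorem eq_of_co1 (h : x ∈ co [0, 2, 3, 4, 5, 6, 7]) : x = x 1 • bv 1 := by
  ext i; fin_cases i <;> simp_all [bv, mem_co]

theorem eq_of_co2 (h : x ∈ co [0, 2, 3, 4, 5, 7]) : x = x 1 • bv 1 + x 6 • bv 6 := by
  ext i; fin_cases i <;> simp_all [bv, mem_co]

theorem fix1 (h2 : (2 : ZMod p) ≠ 0) (hP : IsPGroup p P) (hs : s ∈ P) (ha : a ∈ P)
    (es : s.1 = red p gs) (ea : a.1 = red p ga) : ∀ g ∈ P, nat p g (bv 1) = bv 1 := by
  let π : Fin 8 → (Fin 8 → ZMod p) →ₗ[ZMod p] ZMod p := LinearMap.proj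
  let T := π 0 + π 7
  obtain ⟨u, h1, h3, h4⟩ := fixed_mod hP (U := LinearMap.ker T) (W := ⊥)
    (fun g _ v hv => (nat_tr g v).trans hv) (by simp) fun h => by simpa [bv, T, π] using h (x := bv 1)
  have b1 := h4 s hs
  have b2 := h4 a ha
  simp [nat_s _ es, nat_a _ ea, T, π] at b1 b2 h1
  have b3 : u 0 = 0 := (mul_eq_zero.1 (by linear_combination h1 + b1.2.2.2.1 + b1.1)).resolve_left h2
  have b4 := eq_of_co1 (x := u) (by simpa [mem_co, b1, b2, b3] using h1)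
  intro g hg
  have := h4 g hg
  rw [b4, map_smul, ← smul_sub, Submodule.mem_bot, smul_eq_zero, sub_eq_zero] at this
  exact this.resolve_left fun k => h3 (by rw [b4, k]; simp)

theorem inv3 (k : nat p g (bv 1) = bv 1) (hx : x ∈ co [0, 2, 3, 4, 7]) :
    nat p g x ∈ co [0, 2, 3, 4, 7] := by
  have b1 := nat_mul g (bv 1) x
  have b2 := nat_mul g x (bv 1)
  simp [mem_co] at hx
  rw [k, show zm _ (bv 1) x = 0 by simp [zm_apply, bv, hx], map_zero, eq_comm] at b1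
  rw [k, show zm _ x (bv 1) = 0 by simp [zm_apply, bv, hx], map_zero, eq_comm] at b2
  simp [zm_apply, bv] at b1 b2
  simp [mem_co, b1, b2]

theorem fix6 (hP : IsPGroup p P) (ha : a ∈ P) (ea : a.1 = red p ga)
    (k1 : ∀ g ∈ P, nat p g (bv 1) = bv 1) (hg : g ∈ P) :
    nat p g (bv 6) - bv 6 ∈ co [0, 2, 3, 4, 5, 6, 7] := by
  have w1 : ∀ g ∈ P, ∀ v ∈ co [0, 2, 3, 4, 5, 6, 7], nat p g v = v := fun g hg v hv => by
    rw [eq_of_co1 hv, map_smul, k1 g hg]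
  obtain ⟨u, h1, h3, h4⟩ := fixed_mod hP (fun g hg v => inv3 (k1 g hg))
    (fun g hg v hv => (w1 g hg v hv).symm ▸ hv) fun h => by simpa [bv, mem_co] using h (x := bv 6)
  have b2 := h4 a ha
  simp [nat_a _ ea, mem_co] at b2 h1 h3
  have b4 := w1 g hg (u - u 6 • bv 6) (by simp [mem_co, bv, h1, b2])
  rw [← (co _).smul_mem_iff (s := u 6) fun e => by simp [h1, b2, e] at h3]
  convert h4 g hg using 1
  rw [map_sub, map_smul] at b4
  linear_combination (norm := module) -b4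

theorem fix5 (hP : IsPGroup p P) (k1 : ∀ g ∈ P, nat p g (bv 1) = bv 1)
    (k6 : ∀ g ∈ P, nat p g (bv 6) - bv 6 ∈ co [0, 2, 3, 4, 5, 6, 7]) (hg : g ∈ P) :
    nat p g (bv 5) - bv 5 ∈ co [0, 2, 3, 4, 5, 7] := by
  have w2 : ∀ g ∈ P, ∀ v ∈ co [0, 2, 3, 4, 5, 7], nat p g v ∈ co [0, 2, 3, 4, 5, 7] := fun g hg v hv => by
    have := k6 g hg
    rw [eq_of_co2 hv, map_add, map_smul, map_smul, k1 g hg]
    simp [mem_co, bv] at this ⊢
    simp [this]
  obtain ⟨u, h1, h3, h4⟩ := fixed_mod hP (fun g hg v => inv3 (k1 g hg)) w2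
    fun h => by simpa [bv, mem_co] using h (x := bv 5)
  simp [mem_co] at h1 h3
  have b3 : u - u 5 • bv 5 ∈ co [0, 2, 3, 4, 5, 7] := by simp [mem_co, bv, h1]
  rw [← (co _).smul_mem_iff (s := u 5) fun e => by simp [h1, e] at h3]
  convert add_mem (sub_mem (h4 g hg) (w2 g hg _ b3)) b3 using 1
  rw [map_sub, map_smul]
  module

theorem cols (k1 : nat p g (bv 1) = bv 1) (b6 : nat p g (bv 6) - bv 6 ∈ co [0, 2, 3, 4, 5, 6, 7])
    (b5 : nat p g (bv 5) - bv 5 ∈ co [0, 2, 3, 4, 5, 7]) (hx : nat p g (bv 3) = x)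
    (hy : nat p g (bv 2) = y) : x = ![x 0, x 1, x 2, 1, 0, x 5, -(x 0 * x 0) - x 2 * x 5, -x 0] ∧
      y = ![y 0, y 1, 1, 0, 0, -(y 0 * y 0), -2 * x 0 * y 0 + x 2 * (y 0 * y 0) - x 5, -y 0] := by
  have c1 := nat_polar g (bv 3) (bv 1)
  have c2 := nat_polar g (bv 3) (bv 6)
  have c3 := nat_tr g (bv 3)
  have c4 := nat_N g (bv 3)
  have d1 := nat_polar g (bv 2) (bv 1)
  have d2 := nat_polar g (bv 2) (bv 6)
  have d3 := nat_polar g (bv 2) (bv 5)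
  have d4 := nat_tr g (bv 2)
  have d5 := nat_N g (bv 2)
  have d6 := nat_polar g (bv 3) (bv 2)
  simp only [k1, hx, hy] at c1 c2 c3 c4 d1 d2 d3 d4 d5 d6
  generalize nat p g (bv 5) = u, nat p g (bv 6) = v at *
  simp [mem_co, bv, sub_eq_zero] at b5 b6
  simp [polar_zN, bv] at c1 d1
  simp [polar_zN, bv, b6, c1, d1] at c2 d2
  simp [polar_zN, bv, b5, d1, d2] at d3
  simp [polar_zN, zN_apply, bv, c1, c2, d1, d2, d3] at c3 d4 c4 d5 d6
  constructor <;> ext i <;> fin_cases i <;> simp [c1, c2, d1, d2, d3]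
  exacts [by linear_combination x 0 * c3 - c4, by linear_combination c3,
    by linear_combination y 0 * d4 - d5,
    by linear_combination (x 0 - x 2 * y 0) * d4 + y 0 * c3 + x 2 * d5 - d6, by linear_combination d4]

theorem g2_bound (h2 : (2 : ZMod p) ≠ 0) (hP : IsPGroup p P) (hs : s ∈ P) (ha : a ∈ P)
    (es : s.1 = red p gs) (ea : a.1 = red p ga) : Nat.card P ≤ p ^ 6 := by
  have k1 := fix1 h2 hP hs ha es ea
  have k6 := fun g => fix6 (g := g) hP ha ea k1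
  have key := fun g hg => cols (k1 g hg) (k6 g hg) (fix5 hP k1 k6 hg) rfl rfl
  let f : P → Fin 6 → ZMod p := fun g => ![nat p g (bv 3) 0, nat p g (bv 3) 1, nat p g (bv 3) 2,
    nat p g (bv 3) 5, nat p g (bv 2) 0, nat p g (bv 2) 1]
  refine (Nat.card_le_card_of_injective f fun g h k => ?_).trans_eq (by simp)
  simp only [f, vecCons_inj] at k
  have a3 : nat p g (bv 3) = nat p h (bv 3) := by rw [(key g g.2).1, (key h h.2).1]; simp only [k]
  have a2 : nat p g (bv 2) = nat p h (bv 2) := by rw [(key g g.2).2, (key h h.2).2]; simp only [k]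
  have a1 : nat p g (bv 1) = nat p h (bv 1) := by rw [k1 g g.2, k1 h h.2]
  have m : ∀ i j l, nat p g (bv i) = nat p h (bv i) → nat p g (bv j) = nat p h (bv j) →
      bv l = zm (ZMod p) (bv i) (bv j) → nat p g (bv l) = nat p h (bv l) := fun i j l b c d => by
    rw [d, nat_mul, nat_mul, b, c]
  have a4 := m 2 3 4 a2 a3 (by ext i; fin_cases i <;> simp [zm_apply, bv])
  have a5 := m 3 1 5 a3 a1 (by ext i; fin_cases i <;> simp [zm_apply, bv])
  have a6 := m 1 2 6 a1 a2 (by ext i; fin_cases i <;> simp [zm_apply, bv])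
  have a0 := m 1 4 0 a1 a4 (by ext i; fin_cases i <;> simp [zm_apply, bv])
  have a7 := m 4 1 7 a4 a1 (by ext i; fin_cases i <;> simp [zm_apply, bv])
  have b : ∀ i, nat p g (bv i) = nat p h (bv i) := fun i => by fin_cases i <;> assumption
  refine Subtype.ext (Subtype.ext (Units.ext (Matrix.ext fun i j => ?_)))
  simpa [nat_apply, bv] using congrFun (b j) i

end Bound

theorem XS.sylow_relG {G V : Type*} [Group G] [AddCommGroup V] [Module (ZMod p) V] (X : XS p G V)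
    (h5 : 5 ≤ p) {k : ZMod p} {s a b c d : G} (h : RelG s a b c d (pw X.z k))
    (h' : ∀ x ∈ [s, a, b, c, d, pw X.z k], x ^ p = 1) (gen : cl [s, a, b, c, d, pw X.z k] = ⊤)
    (hc : Nat.card G = p ^ 6) : ∃ P : Sylow p (G2 (ZMod p)), Nonempty (G ≃* (P : Subgroup (G2 (ZMod p)))) := by
  have := X.finite
  obtain ⟨φ, h1, h2, h3, h4⟩ := exists_hom6 (h.prod (relG_int.map (red p))).pc h' (by
    simp only [List.forall_mem_cons]
    refine ⟨?_, ?_, ?_, ?_, ?_, ?_, by simp⟩ <;> exact red_pow (by omega) _ _) gen hc.ge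
  refine exists_sylow φ (X.inj φ (c := k) fun e => ?_) (h4 _ (by
    simp only [List.forall_mem_cons]
    refine ⟨?_, ?_, ?_, ?_, ?_, ?_, by simp⟩ <;> exact red_mem (by decide +kernel))) X.pg
    fun P hP hm => hc ▸ g2_bound X.two_ne hP (hm s) (hm a) h2 h3
  simpa [coe_red, gz, iu] using congrArg (fun M : GL (Fin 8) (ZMod p) => M.val 6 4) (h1.symm.trans e)

end Cfsg.Agent.Fus.Xs
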