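import Mathlib
import Cfsg.Agent.Fus.Xs.Rel
import Cfsg.Agent.Cl.UModel
import Cfsg.Agent.S0242
import Cfsg.Agent.S0278

/-! Sylow subgroups of `SL₄(p)` and `SU₄(p)` by generators and relations. -/

set_option autoImplicit false
set_option linter.unusedSectionVars false

namespace Cfsg.Agent.Fus.Xs

open Subgroup Matrix Cfsg.Agent.Cl

variable {p : ℕ} [hp : Fact p.Prime] {G : Type*} [Group G] {K : Type*} [Field K]

/-- Upper unitriangular matrices. -/
def ut (a b c d e f : K) : SpecialLinearGroup (Fin 4) K :=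
  ⟨!![1, a, b, c; 0, 1, d, e; 0, 0, 1, f; 0, 0, 0, 1], by
    rw [det_of_isUpperTriangular fun i j h => by fin_cases i <;> fin_cases j <;> simp_all]
    simp [Fin.prod_univ_four]⟩

theorem coe_ut (a b c d e f : K) : (ut a b c d e f).1 = !![1, a, b, c; 0, 1, d, e; 0, 0, 1, f; 0, 0, 0, 1] :=
  rfl

theorem ut_mul (a b c d e f a' b' c' d' e' f' : K) : ut a b c d e f * ut a' b' c' d' e' f' =
    ut (a + a') (b + a * d' + b') (c + a * e' + b * f' + c') (d + d') (e + d * f' + e') (f + f') := by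
  ext i j
  change ((ut a b c d e f).1 * (ut a' b' c' d' e' f').1) i j = _
  fin_cases i <;> fin_cases j <;> simp [coe_ut, Matrix.mul_apply, Fin.sum_univ_four] <;> ring

theorem ut_zero : ut (0 : K) 0 0 0 0 0 = 1 := by
  ext i j
  fin_cases i <;> fin_cases j <;> simp [coe_ut]

theorem ut_pow {a b c d e f : K} (h1 : a * d = 0) (h2 : a * e + b * f = 0) (h3 : d * f = 0) (n : ℕ) :
    ut a b c d e f ^ n = ut (n * a) (n * b) (n * c) (n * d) (n * e) (n * f) := by
  induction n with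
  | zero => simp [ut_zero]
  | succ n ih =>
    rw [pow_succ, ih, ut_mul]
    congr 1 <;> push_cast
    exacts [by ring, by linear_combination (n : K) * h1, by linear_combination (n : K) * h2, by ring,
      by linear_combination (n : K) * h3, by ring]

theorem relT_ut {ε : ZMod p} {θ : K} (h : θ * θ = -(ε.val : K)) :
    RelT ε (ut 1 0 0 0 0 1) (ut θ 0 0 0 0 (-θ)) (ut 0 0 0 1 0 0) (ut 0 1 (-1) 0 (-1) 0)
      (ut 0 θ (θ * θ) 0 θ 0) (ut 0 0 (-2) 0 0 0) := by
  constructor <;> (try rw [pw, ut_pow (by simp) (by simp) (by simp)]) <;> simp only [ut_mul] <;>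
    congr 1 <;> first | ring1 | linear_combination 2 * h

theorem nd_sub (k : ℕ) : ¬ p ∣ p ^ (k + 1) - 1 := fun h => hp.out.one_lt.ne' (Nat.dvd_one.1
  ((Nat.dvd_sub_iff_right (Nat.one_le_pow _ _ hp.out.pos) (dvd_pow_self p k.succ_ne_zero)).1 h))

theorem nd_add (k : ℕ) : ¬ p ∣ p ^ (k + 1) + 1 := fun h => hp.out.one_lt.ne' (Nat.dvd_one.1
  ((Nat.dvd_add_right (dvd_pow_self p k.succ_ne_zero)).1 h))

variable {V : Type*} [AddCommGroup V] [Module (ZMod p) V]

theorem XS.exists_ut (X : XS p G V) [Finite K] [CharP K p] {ε c : ZMod p} {r t s d e : G} {θ : K}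
    (hθ : θ * θ = -(ε.val : K)) (h : RelT ε r t s d e (pw X.z c))
    (h' : ∀ x ∈ [r, t, s, d, e, pw X.z c], x ^ p = 1) (gen : cl [r, t, s, d, e, pw X.z c] = ⊤)
    (hc : Nat.card G = p ^ 6) {L : Subgroup (SpecialLinearGroup (Fin 4) K)}
    (hL : ∀ x ∈ [ut 1 0 0 0 0 1, ut θ 0 0 0 0 (-θ), ut 0 0 0 1 0 0, ut 0 1 (-1) 0 (-1) 0,
      ut 0 θ (θ * θ) 0 θ 0, ut 0 0 (-2) 0 0 0], x ∈ L) {a m : ℕ} (e1 : a * Nat.card L = p ^ 6 * m)
    (hm : ¬ p ∣ m) : ∃ P : Sylow p L, Nonempty (G ≃* (P : Subgroup L)) := by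
  have := X.finite
  obtain ⟨φ, h1, -, -, h2⟩ := exists_hom6 (h.prod (relT_ut hθ)).pc h' (by
    simp only [List.forall_mem_cons]
    refine ⟨?_, ?_, ?_, ?_, ?_, ?_, by simp⟩ <;> rw [ut_pow (by simp) (by simp) (by simp)] <;>
      simp [ut_zero]) gen hc.ge
  refine exists_sylow φ (X.inj φ (c := c) fun k => X.two_ne ((ZMod.castHom dvd_rfl K).injective ?_))
    (h2 L hL) X.pg fun P hP _ => hc ▸ card_le_of_dvd hP e1 hm
  simpa [coe_ut, map_ofNat] using congrArg (fun M : SpecialLinearGroup (Fin 4) K => M 0 3) (h1.symm.trans k)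

theorem XS.sylow_relT (X : XS p G V) {ε c : ZMod p} {r t s d e : G} (h : RelT ε r t s d e (pw X.z c))
    (h' : ∀ x ∈ [r, t, s, d, e, pw X.z c], x ^ p = 1) (gen : cl [r, t, s, d, e, pw X.z c] = ⊤)
    (hc : Nat.card G = p ^ 6) :
    (∃ P : Sylow p (SpecialLinearGroup (Fin 4) (ZMod p)),
        Nonempty (G ≃* (P : Subgroup (SpecialLinearGroup (Fin 4) (ZMod p))))) ∨
      ∃ (K : Type) (_ : Field K) (_ : Fintype K), Fintype.card K = p ^ 2 ∧
        ∃ P : Sylow p (SU 4 K p), Nonempty (G ≃* (P : Subgroup (SU 4 K p))) := by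
  by_cases hε : IsSquare (-ε)
  · obtain ⟨θ, hθ⟩ := hε
    obtain ⟨P, ⟨f⟩⟩ := X.exists_ut (θ := θ) (by simp [hθ]) h h' gen hc (L := ⊤) (by simp) (a := p - 1)
      (m := (p ^ 4 - 1) * (p ^ 3 - 1) * (p ^ 2 - 1) * (p ^ 1 - 1)) (by
        rw [card_top, S0242.result (ZMod.card p) 4 (by simp), Fin.prod_univ_four]
        have := hp.out.pos
        zify [Nat.one_le_pow _ _ this, fun i : Fin 4 => Nat.pow_le_pow_right this i.2.le]
        simp; ring) (by simp only [hp.out.dvd_mul, nd_sub, or_self, not_false_eq_true])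
    exact .inl ⟨P.mapSurjective (f := (⊤ : Subgroup _).subtype) topEquiv.surjective,
      ⟨f.trans (topEquiv.subgroupMap _)⟩⟩
  obtain ⟨K, _, I, hK⟩ : ∃ (K : Type) (_ : Field K) (_ : Fintype K), Fintype.card K = p ^ 2 :=
    ⟨GaloisField p 2, inferInstance, Fintype.ofFinite _,
      Fintype.card_eq_nat_card.trans (GaloisField.card p 2 (by simp))⟩
  obtain ⟨σ, hσ⟩ := exists_uField hK
  obtain ⟨ι, hι⟩ := hσ.exists_embedding (K := ZMod p) (by simp)
  have := charP_of_injective_ringHom ι.injective p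
  obtain ⟨η, h0, h1⟩ := hσ.invol.exists_trace_zero
  obtain ⟨k, hk⟩ := (hι (η * η)).2 (by simp [h1])
  have h2 : (2 : K) ≠ 0 := by simpa [map_ofNat] using (map_ne_zero ι).2 X.two_ne
  have h3 : ¬ IsSquare k := by
    rintro ⟨m, rfl⟩
    have k1 := (hι _).1 ⟨m, rfl⟩
    rcases mul_self_eq_mul_self_iff.1 ((map_mul ι m m).symm.trans hk) with e | e <;>
      simp only [e, map_neg, h1] at k1
    exacts [h0 ((mul_eq_zero.1 (by linear_combination -k1)).resolve_left h2),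
      h0 ((mul_eq_zero.1 (by linear_combination k1)).resolve_left h2)]
  have k0 : k ≠ 0 := by rintro rfl; exact h3 IsSquare.zero
  obtain ⟨m, hm⟩ : IsSquare (-ε * k) := by
    rw [← quadraticChar_one_iff_isSquare (mul_ne_zero (fun e => hε (by simp [e])) k0), map_mul,
      quadraticChar_neg_one_iff_not_isSquare.2 hε, quadraticChar_neg_one_iff_not_isSquare.2 h3]
    simp
  have hσθ : σ (ι (m / k) * η) = -(ι (m / k) * η) := by rw [map_mul, (hι _).1 ⟨_, rfl⟩, h1, mul_neg]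
  obtain ⟨g⟩ := hσ.nonempty_uMatSU_equiv (M := η • !![0, 0, 0, 1; 0, 0, -1, 0; 0, 1, 0, 0; -1, 0, 0, 0])
    (by ext i j; fin_cases i <;> fin_cases j <;> simp [h1])
    (by simp [det_succ_row_zero, Fin.sum_univ_succ, h0, Fin.succAbove])
  obtain ⟨P, ⟨f⟩⟩ := X.exists_ut (θ := ι (m / k) * η) (by
      rw [mul_mul_mul_comm, ← hk, ← map_mul, ← map_mul, ← map_natCast ι, ← map_neg, ZMod.natCast_zmod_val]
      congr 1; field_simp; linear_combination -hm) h h' gen hc
    (L := uMatSU σ (η • !![0, 0, 0, 1; 0, 0, -1, 0; 0, 1, 0, 0; -1, 0, 0, 0])) (by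
      generalize ι (m / k) * η = θ at hσθ
      simp only [List.forall_mem_cons, uMatSU_smul _ h0, mem_uMatSU]
      refine ⟨?_, ?_, ?_, ?_, ?_, ?_, by simp⟩ <;> ext i j <;> fin_cases i <;> fin_cases j <;>
        simp [coe_ut, Matrix.mul_apply, Fin.sum_univ_four, hσθ, map_ofNat])
    (a := p + 1) (m := (p ^ 1 + 1) * (p ^ 2 - 1) * (p ^ 3 + 1) * (p ^ 4 - 1)) (by
      rw [Nat.card_congr g.toEquiv, S0278.result hK 4 (by simp)]
      simp [Finset.prod_range_succ, Nat.even_add_one]) (by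
      simp only [hp.out.dvd_mul, nd_sub, nd_add, or_self, not_false_eq_true])
  exact .inr ⟨K, inferInstance, I, hK, P.mapSurjective (f := g.toMonoidHom) g.surjective,
    ⟨f.trans (g.subgroupMap _)⟩⟩

end Cfsg.Agent.Fus.Xs
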