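import Mathlib
import Cfsg.Agent.Fus.Xs.Aut
import Cfsg.Agent.Fus.Xs.Lin
import Cfsg.Agent.Fus.Xs.G2

/-! Identification of the groups of order `p ^ 6`. -/

set_option autoImplicit false
set_option linter.unusedSectionVars false

namespace Cfsg.Agent.Fus.Xs

open Subgroup Module

variable {p : ℕ} [hp : Fact p.Prime] {G : Type*} [Group G] {V : Type*} [AddCommGroup V]
  [Module (ZMod p) V]

variable (p G) in
/-- The possible Sylow subgroups. -/
def Concl : Prop :=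
  (∃ P : Sylow p (Matrix.SpecialLinearGroup (Fin 4) (ZMod p)),
      Nonempty (G ≃* (P : Subgroup (Matrix.SpecialLinearGroup (Fin 4) (ZMod p))))) ∨
    (∃ (K : Type) (_ : Field K) (_ : Fintype K), Fintype.card K = p ^ 2 ∧
      ∃ P : Sylow p (SU 4 K p), Nonempty (G ≃* (P : Subgroup (SU 4 K p)))) ∨
    (5 ≤ p ∧ ∃ P : Sylow p (Lie.G2 (ZMod p)), Nonempty (G ≃* (P : Subgroup (Lie.G2 (ZMod p))))) ∨
    (11 ≤ p ∧ Nat.card G = p ^ (p - 1) ∧ (∀ x : G, x ^ p = 1) ∧ Group.nilpotencyClass G = p - 2)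

theorem mul_eq_cm (g x : G) : g * x = x * cm g x * g := by rw [mul_cm, inv_mul_cancel_right]

namespace XS

variable (X : XS p G V) {g s t x y q : G} {u v w : V}

theorem mul_eq (hx : x ∈ X.Q) (hy : y ∈ X.Q) {c : ZMod p} (h : X.β (X.bar x) (X.bar y) = c) :
    x * y = y * pw X.z c * x := by rw [mul_eq_cm, X.cm_Q hx hy, h]

theorem β_NN (hs : s ∉ X.Q) (h : ∀ v, X.N s (X.N s v) = 0) (t : G) (u v : V) :
    X.β (X.N t u) (X.N t v) = 0 := by
  obtain ⟨w, e⟩ := X.exists_N_apply hs t v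
  exact X.β_N_of (e ▸ X.N_eq_zero hs (h w) t) u

theorem β_N_symm (hs : s ∉ X.Q) (h : ∀ v, X.N s (X.N s v) = 0) (t : G) (u v : V) :
    X.β u (X.N t v) = X.β v (X.N t u) := by
  linear_combination X.β_N t u v - X.β_NN hs h t u v - X.β_swap (X.N t u) v

theorem concl_TD (hs : s ∉ X.Q) (sp : s ^ p = 1) (hπ : X.π = 0) (hn : finrank (ZMod p) V = 4)
    (h2 : ∀ v, X.N s (X.N s v) = 0) (h3 : ∀ v, X.N s v = 0 → ∃ u, X.N s u = v)
    (hc : ∀ q ∈ X.Q, X.N s (X.bar q) = 0 → Commute s q) : Concl p G := by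
  have hs' : s⁻¹ ∉ X.Q := fun h => hs (inv_mem_iff.1 h)
  set M := X.N s⁻¹ with hM
  have sy : ∀ u v, X.β u (M v) = X.β v (M u) := X.β_N_symm hs h2 _
  have nn : ∀ u v, X.β (M u) (M v) = 0 := X.β_NN hs h2 _
  have mm : ∀ t v, X.N t (M v) = 0 := fun t v => by
    obtain ⟨w, e⟩ := X.exists_N_apply hs s⁻¹ v
    exact e ▸ X.N_eq_zero hs (h2 w) t
  have an : ∀ L : V →ₗ[ZMod p] ZMod p, (∀ u, L u = 0 → (∀ v, L v = 0 → X.β v (M u) = 0) → M u = 0) →
      ∃ r ∈ X.Q, L (X.bar r) = 0 ∧ X.β (X.bar r) (M (X.bar r)) ≠ 0 := fun L h => by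
    obtain ⟨u, h1, k⟩ := X.exists_ker (P := fun v => M v = 0) (fun u v hu hv => by
      obtain ⟨w, rfl⟩ := h3 u (X.N_eq_zero hs' hu s)
      exact X.β_N_of (X.N_eq_zero hs' hv s) w) L
    by_contra! k'
    have k2 : ∀ v, L v = 0 → X.β v (M v) = 0 := fun v hv => by
      obtain ⟨r, hr, rfl⟩ := X.bar_surj v; exact k' r hr hv
    refine k (h u h1 fun v hv => (mul_eq_zero.1 ?_).resolve_left X.two_ne)
    have := k2 (u + v) (by simp [h1, hv])
    simp only [map_add, LinearMap.add_apply, k2 u h1, k2 v hv, sy u v] at this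
    linear_combination this
  obtain ⟨r, hr, -, b1⟩ := an 0 fun u _ k => X.nondeg _ fun v => k v rfl
  obtain ⟨t', ht', c1, c2⟩ := an (X.β (X.bar r) ∘ₗ M) fun u h k => X.nondeg _ fun v => by
    have := k (v - (X.β (X.bar r) (M v) / X.β (X.bar r) (M (X.bar r))) • X.bar r) (by simp [b1])
    simpa [show X.β (X.bar r) (M u) = 0 from h] using this
  replace c1 : X.β (X.bar r) (M (X.bar t')) = 0 := c1
  obtain ⟨t, ht, e⟩ := X.bar_surj (X.bar t' - (X.β (X.bar r) (X.bar t') / X.β (X.bar r) (M (X.bar r))) •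
    M (X.bar r))
  have e0 : M (X.bar t) = M (X.bar t') := by rw [e, map_sub, map_smul, mm, smul_zero, sub_zero]
  have e1 : X.β (X.bar r) (X.bar t) = 0 := by simp [e, b1]
  have e2 : X.β (X.bar r) (M (X.bar t)) = 0 := e0 ▸ c1
  have e3 : X.β (X.bar t) (M (X.bar t)) ≠ 0 := by rw [e0, e]; simpa [nn] using c2
  have e4 := (sy _ _).trans e2
  have d := X.cm_mem r s
  have d' := X.cm_mem t s
  have bd := X.bar_cm' s hr
  have bd' := X.bar_cm' s ht
  have zc := fun g => (X.zc g (X.β (X.bar r) (M (X.bar r)))).eq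
  have qp : ∀ x ∈ X.Q, x ^ p = 1 := fun x hx => by simp [X.pow x hx, hπ]
  refine (X.sylow_relT (ε := X.β (X.bar t) (M (X.bar t)) / X.β (X.bar r) (M (X.bar r)))
    (c := X.β (X.bar r) (M (X.bar r))) (r := r) (t := t) (s := s) (d := cm r s) (e := cm t s)
    ⟨((X.commute_iff hr ht).2 e1).eq, mul_eq_cm r s, X.mul_eq hr d (by rw [bd]),
      ((X.commute_iff hr d').2 (bd' ▸ e2)).eq, zc _, mul_eq_cm t s,
      ((X.commute_iff ht d).2 (bd ▸ e4)).eq, ?_, zc _, (hc _ d (bd ▸ mm _ _)).eq,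
      (hc _ d' (bd' ▸ mm _ _)).eq, zc _, ((X.commute_iff d d').2 (by rw [bd, bd', nn])).eq, zc _, zc _⟩
    (by simp [sp, qp, hr, ht, d, d', X.pz_mem]) ?_ (by rw [X.card, hn])).imp_right .inl
  · rw [← pw_mul X.z_pow, mul_div_cancel₀ _ b1]
    exact X.mul_eq ht d' (by rw [bd'])
  · refine X.eq_top hs (mem_of_pw_mem X.z_pow b1 (mcl (by simp))) (mcl (by simp)) (eq_top4 hn (fun i j k l h => ?_)
      ⟨r, mcl (by simp), hr, rfl⟩ ⟨t, mcl (by simp), ht, rfl⟩ ⟨_, mcl (by simp), d, bd⟩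
      ⟨_, mcl (by simp), d', bd'⟩)
    have k1 := congrArg (X.β (X.bar r)) h
    have k2 := congrArg (X.β (X.bar t)) h
    have k3 := congrArg (X.β.flip (M (X.bar r))) h
    have k4 := congrArg (X.β.flip (M (X.bar t))) h
    simp [← hM, X.β_self, e1, X.β_symm e1, e2, e3, e4, b1, nn] at k1 k2 k3 k4
    exact ⟨k3, k4, k1, k2⟩

theorem concl_TG (hs : s ∉ X.Q) (sp : s ^ p = 1) (hπ : X.π = 0) (hn : finrank (ZMod p) V = 4)
    (hv : X.N s (X.N s (X.N s v)) ≠ 0)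
    (hc : ∀ q ∈ X.Q, ∀ u, X.bar q = X.N s (X.N s (X.N s u)) → Commute s q) : Concl p G := by
  have n4 : ∀ v, X.N s (X.N s (X.N s (X.N s v))) = 0 := fun v => by
    simpa [hn, pow_succ] using LinearMap.congr_fun (X.N_pow s) v
  have h5 : 5 ≤ p := hp.out.five_le_of_ne_two_of_ne_three X.odd fun e =>
    hv (by simpa [e, pow_succ] using LinearMap.congr_fun (X.N_pow_p s) v)
  have h6 : (6 : ZMod p) ≠ 0 := by
    rw [show (6 : ZMod p) = 2 * (3 : ℕ) by norm_num]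
    refine mul_ne_zero X.two_ne fun e => ?_
    have := Nat.le_of_dvd (by simp) ((ZMod.natCast_eq_zero_iff 3 p).1 e)
    omega
  have li : ∀ v, X.N s (X.N s (X.N s v)) ≠ 0 → ∀ i j k l : ZMod p, i • v + j • X.N s v +
      k • X.N s (X.N s v) + l • X.N s (X.N s (X.N s v)) = 0 → i = 0 ∧ j = 0 ∧ k = 0 ∧ l = 0 := by
    intro v hv i j k l h
    have k1 : i = 0 := by simpa [n4, hv] using congrArg (fun x => X.N s (X.N s (X.N s x))) h
    have k2 : j = 0 := by simpa [n4, hv, k1] using congrArg (fun x => X.N s (X.N s x)) h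
    have k3 : k = 0 := by simpa [n4, hv, k1, k2] using congrArg (X.N s) h
    simpa [hv, k1, k2, k3] using h
  have b24 := fun v => X.β_N_of (n4 v) v
  have b34 := fun v => X.β_N_of (n4 v) (X.N s v)
  have b23 : ∀ v, X.β (X.N s v) (X.N s (X.N s v)) = -X.β v (X.N s (X.N s (X.N s v))) := fun v => by
    linear_combination X.β_N s v (X.N s (X.N s v)) - b24 v
  have b13 : ∀ v, X.β v (X.N s (X.N s v)) = X.β v (X.N s (X.N s (X.N s v))) := fun v => by
    linear_combination X.β_N s v (X.N s v) - X.β_self (X.N s v) - b23 v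
  set b := X.β v (X.N s (X.N s (X.N s v))) with hb
  have b0 : b ≠ 0 := fun e => hv (X.nondeg _ fun u => LinearMap.mem_ker.1 ((eq_top4 hn (li v hv)
    (U := LinearMap.ker (X.β.flip _)) e (b24 v) (b34 v) (X.β_self _)).ge trivial))
  obtain ⟨a, ha, e⟩ := X.bar_surj (v + ((b / 6 - X.β v (X.N s v)) / (2 * b)) • X.N s (X.N s v))
  have e3 : X.N s (X.N s (X.N s (X.bar a))) = X.N s (X.N s (X.N s v)) := by simp [e, n4]
  have e14 : X.β (X.bar a) (X.N s (X.N s (X.N s (X.bar a)))) = b := by rw [e3, e]; simp [b34, hb]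
  have e12 : X.β (X.bar a) (X.N s (X.bar a)) = b / 6 := by
    have := X.two_ne
    simp only [e, map_add, map_smul, LinearMap.add_apply, LinearMap.smul_apply, smul_eq_mul, b34,
      X.β_swap (X.N s (X.N s v)) (X.N s v), b23, ← hb]
    field_simp; ring
  have m1 := X.cm_mem s a
  have m2 := X.cm_mem s (cm s a)
  have m3 := X.cm_mem s (cm s (cm s a))
  have f1 := X.bar_cm s ha
  have f2 := (X.bar_cm s m1).trans (congrArg _ f1)
  have f3 := (X.bar_cm s m2).trans (congrArg _ f2)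
  have zc := fun g => (X.zc g (b / 6)).eq
  have z6 : pw X.z (b / 6) ^ 6 = pw X.z b := by rw [pw_pow X.z_pow, Nat.cast_ofNat, div_mul_cancel₀ _ h6]
  have qp : ∀ x ∈ X.Q, x ^ p = 1 := fun x hx => by simp [X.pow x hx, hπ]
  refine .inr (.inr (.inl ⟨h5, X.sylow_relG h5 (k := b / 6) (s := s) (a := a)
    ⟨mul_eq_cm s a, mul_eq_cm s _, mul_eq_cm s _, (hc _ m3 _ f3).eq, zc _,
      X.mul_eq ha m1 (by rw [f1, e12]), z6 ▸ X.mul_eq ha m2 (by rw [f2, b13, e14]),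
      z6 ▸ X.mul_eq ha m3 (by rw [f3, e14]), zc _, ?_, ((X.commute_iff m1 m3).2 (by rw [f1, f3, b24])).eq,
      zc _, ((X.commute_iff m2 m3).2 (by rw [f2, f3, b34])).eq, zc _, zc _⟩
    (by simp [sp, qp, ha, m1, m2, m3, X.pz_mem]) ?_ (by rw [X.card, hn])⟩))
  · rw [z6, ← pw_neg X.z_pow]
    exact X.mul_eq m1 m2 (by rw [f1, f2, b23, e14])
  · exact X.eq_top hs (mem_of_pw_mem X.z_pow (div_ne_zero b0 h6) (mcl (by simp))) (mcl (by simp))
      (eq_top4 hn (li _ (e3 ▸ hv))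
      ⟨a, mcl (by simp), ha, rfl⟩ ⟨_, mcl (by simp), m1, f1⟩ ⟨_, mcl (by simp), m2, f2⟩
      ⟨_, mcl (by simp), m3, f3⟩)

end XS

end Cfsg.Agent.Fus.Xs
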