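import Mathlib
import Cfsg.Agent.Fus.Xs.Aut
import Cfsg.Agent.Fus.Normal

/-! A fully normalized subgroup with an automorphism moving the centre of the Sylow subgroup. -/

set_option autoImplicit false
set_option linter.unusedSectionVars false

namespace Cfsg.Agent.Fus.Xs

open Subgroup Module Cfsg.FusionSystem

variable {p : ℕ} [hp : Fact p.Prime] {G : Type*} [Group G] [Finite G] {V : Type*} [AddCommGroup V]
  [Module (ZMod p) V] {F : FusionSystem (⊤ : Subgroup G)} {E P R : Subgroup G} {f g : G → G}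
  {x y : G}

theorem _root_.Cfsg.FusionSystem.Mor.map_pw (h : F.Mor P f) (hx : x ∈ P) (c : ZMod p) :
    f (pw x c) = pw (f x) c := h.map_pow hx _

theorem _root_.Cfsg.FusionSystem.Mor.map_cm (h : F.Mor P f) (hx : x ∈ P) (hy : y ∈ P) :
    f (cm x y) = cm (f x) (f y) := by
  rw [cm, h.map_mul (P.inv_mem hy) (P.mul_mem (P.mul_mem hx hy) (P.inv_mem hx)), h.map_inv hy,
    h.map_conj hx hy, cm]

theorem _root_.Cfsg.FusionSystem.Mor.pow_p (h : F.Mor P f) (hx : x ∈ P) (e : x ^ p = 1) :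
    f x ^ p = 1 := by rw [← h.map_pow hx, e, h.map_one]

theorem cm_mem_of (hx : x ∈ P) (hy : y ∈ P) : cm x y ∈ P :=
  P.mul_mem (P.inv_mem hy) (P.mul_mem (P.mul_mem hx hy) (P.inv_mem hx))

theorem iso_cj (F : FusionSystem (⊤ : Subgroup G)) {s : G} (h : ∀ x ∈ P, s * x * s⁻¹ ∈ P) :
    F.Iso P P fun x => s * x * s⁻¹ := (F.mor_conj le_top trivial).iso_self h

theorem exists_aut (h : F.Mor ⊤ f) : ∃ τ : G ≃* G, ∀ x, τ x = f x :=
  ⟨MulEquiv.ofBijective (MonoidHom.mk' f fun _ _ => h.map_mul trivial trivial)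
    (Finite.injective_iff_bijective.1 fun _ _ e => h.inj trivial trivial e), fun _ => rfl⟩

/-- Automorphisms of `E` acting on `e, e'` by a matrix and fixing the elements of `D`. -/
def Act (F : FusionSystem (⊤ : Subgroup G)) (E : Subgroup G) (D : G → Prop) (e e' : G)
    (a b c d : ZMod p) : Prop :=
  ∃ f, F.Iso E E f ∧ f e = pw e a * pw e' b ∧ f e' = pw e c * pw e' d ∧ ∀ x, D x → f x = x

theorem Act.torus {D : G → Prop} {e e' : G} (he : e ∈ E) (he' : e' ∈ E) (pe : e ^ p = 1)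
    (pe' : e' ^ p = 1) (hc : Commute e e') (h1 : ∀ i : ZMod p, Act F E D e e' 1 0 i 1)
    (h2 : ∀ j : ZMod p, Act F E D e e' 1 j 0 1) {a : ZMod p} (ha : a ≠ 0) :
    ∃ f, F.Iso E E f ∧ f e = pw e a⁻¹ ∧ f e' = pw e' a ∧ ∀ x, D x → f x = x := by
  have comp : ∀ {a b c d a' b' c' d' : ZMod p}, Act F E D e e' a b c d → Act F E D e e' a' b' c' d' →
      Act F E D e e' (a' * a + c' * b) (b' * a + d' * b) (a' * c + c' * d) (b' * c + d' * d) := by
    rintro a b c d a' b' c' d' ⟨f, f1, f2, f3, f4⟩ ⟨g, g1, g2, g3, g4⟩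
    have k : ∀ i j : ZMod p, g (pw e i * pw e' j) = pw e (a' * i + c' * j) * pw e' (b' * i + d' * j) :=
      fun i j => by
        rw [g1.mor.map_mul (pw_mem he i) (pw_mem he' j), g1.mor.map_pw he, g1.mor.map_pw he', g2, g3,
          mul_pw ((hc.pw_left _).pw_right _), mul_pw ((hc.pw_left _).pw_right _), pw_add pe, pw_add pe',
          pw_mul pe, pw_mul pe, pw_mul pe', pw_mul pe']
        exact (((hc.pw_left _).pw_left _).pw_right _).pw_right _ |>.symm.mul_mul_mul_comm _ _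
    exact ⟨_, g1.comp f1, by rw [f2, k], by rw [f3, k], fun x hx => by rw [f4 x hx, g4 x hx]⟩
  have n : ∀ {a : ZMod p}, a ≠ 0 → Act F E D e e' 0 a (-a⁻¹) 0 := fun {a} ha => by
    convert comp (comp (h1 (-a⁻¹)) (h2 a)) (h1 (-a⁻¹)) using 1 <;> simp [ha]
  simpa [Act] using comp (n (neg_ne_zero.2 one_ne_zero)) (n ha)

namespace XS

variable (X : XS p G V)

theorem eq_zero_of_pw (hx : x ^ p = 1) (h : x ∉ zpowers X.z) {c : ZMod p} (k : pw x c ∈ zpowers X.z) :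
    c = 0 := by_contra fun e => h (mem_of_pw_mem hx e k)

theorem mor_Z (h : F.Mor P f) (hz : X.z ∈ P) (k : f X.z ∈ zpowers X.z) (hx : x ∈ P) :
    f x ∈ zpowers X.z ↔ x ∈ zpowers X.z := by
  refine ⟨fun e => ?_, fun e => ?_⟩
  · obtain ⟨a, ha⟩ := X.mem_Z.1 k
    obtain ⟨c, hc⟩ := X.mem_Z.1 e
    have a0 : a ≠ 0 := fun e => X.z_ne ((h.eq_one_iff hz).1 (by simp [ha, e]))
    rw [h.inj hx (pw_mem hz (c / a)) (by rw [h.map_pw hz, ha, ← pw_mul X.z_pow, mul_div_cancel₀ _ a0, hc])]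
    exact pw_mem (mem_zpowers _) _
  · obtain ⟨c, rfl⟩ := X.mem_Z.1 e
    rw [h.map_pw hz]; exact pw_mem k c

theorem ext (hF : F.IsSaturated p) (hP : F.IsFullyNormalized P) (hz : X.z ∈ P) (hg : F.Iso P P g)
    (hQ : ∀ x ∈ P, x ∈ X.Q → g x ∈ X.Q) (hZ : g X.z ∈ zpowers X.z)
    (hR : ∀ r ∈ R, (∀ x ∈ P, r * x * r⁻¹ ∈ P) ∧ ∀ x ∈ P, x ∈ X.Q → cm r x ∈ zpowers X.z) :
    ∃ g', F.Mor (P ⊔ R) g' ∧ ∀ x ∈ P, g' x = g x := by
  have hS := X.pg.to_subgroup ⊤
  have zP := zpowers_le.2 hz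
  let C : ℕ → Subgroup G := fun i =>
    if i = 0 then P else if i = 1 then P ⊓ X.Q else if i = 2 then zpowers X.z else ⊥
  let A := chainStab P C 3 ⊓ F.autGroup P
  have hl : ∀ {k}, ∀ hk : F.Iso P P k, (∀ x ∈ P, x ∈ X.Q → k x ∈ X.Q) → k X.z ∈ zpowers X.z →
      ∀ α ∈ A, hk.aut * α * hk.aut⁻¹ ∈ A := fun hk kQ kZ α hα => by
    refine ⟨conj_mem_chainStab hα.1 fun i hi => ?_,
      mul_mem (mul_mem hk.aut_mem hα.2) (Subgroup.inv_mem _ hk.aut_mem)⟩
    interval_cases i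
    · exact mem_stabA_of_maps le_rfl fun x hx => totA_mem _ hx
    · exact mem_stabA_of_maps inf_le_left fun x hx => ⟨totA_mem _ hx.1, hk.totA_aut hx.1 ▸ kQ x hx.1 hx.2⟩
    · exact mem_stabA_of_maps zP fun x hx => hk.totA_aut (zP hx) ▸ (X.mor_Z hk.mor hz kZ (zP hx)).2 hx
    · exact (invA_bot ⊤).le_stabA (mem_top _)
  have hle := (hF.fullyAutomized hS hP).le_of_isPGroup hS
    ((((isPGroup_chainStab (X.pg.to_subgroup P) (C := C) (n := 3) rfl bot_le).to_le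
      inf_le_left).to_sup_of_normal_left' (isPGroup_autInducedBy hS P)) fun l hl' => by
      obtain ⟨s, hs, rfl⟩ := mem_autInducedBy_iff_cAut.1 hl'
      have hk := F.iso_conj_of_mem_normalizer le_top hs.1 hs.2
      rw [← eq_cAut hk.coe_aut]
      exact mem_normalizer_fintype (hl hk (fun x _ => X.conj_mem s)
        ((conj_of_commute (X.z_comm s)).symm ▸ mem_zpowers _)))
    (sup_le inf_le_right (F.autInducedBy_le_autGroup le_top)) le_sup_right
  have hn : R ≤ normalizerIn ⊤ P := fun r hr => ⟨trivial, mem_normalizer_fintype (hR r hr).1⟩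
  refine (hF.receptive_of_fullyNormalized hS hP).extend_of_aut hg hn fun s hs => ?_
  rw [← hg.eq_autCongr (β := hg.aut * cAut P s * hg.aut⁻¹) fun x hx => by
    rw [← hg.totA_aut hx, totA_mul _ _ (totA_mem _ hx), totA_inv_totA _ hx, totA_mul _ _ hx,
      hg.totA_aut (totA_mem _ hx)]]
  refine hle (mem_sup_left (hl hg hQ hZ _ ⟨mem_chainStab_of le_rfl (fun i hi => ?_) fun i hi x hx => ?_,
    F.cAut_mem_autGroup le_top (hn hs)⟩))
  · interval_cases i
    exacts [inf_le_left, le_inf zP X.Z_le, bot_le]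
  · interval_cases i
    · rw [totA_cAut (hn hs).2 hx]
      exact ⟨P.mul_mem (P.inv_mem hx) ((hR s hs).1 x hx), X.cm_mem s x⟩
    · rw [totA_cAut (hn hs).2 hx.1]; exact (hR s hs).2 x hx.1 hx.2
    · rw [totA_cAut (hn hs).2 (zP hx)]; exact cm_eq_one.2 (X.commute_of_mem_Z s hx)

variable (F E) in
/-- The setting of the main argument. -/
structure Ctx : Prop where
  sat : F.IsSaturated p
  fn : F.IsFullyNormalized E
  zE : X.z ∈ E
  ex : ∃ α, F.Iso E E α ∧ α X.z ∉ zpowers X.z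
  max : ∀ P f, F.Mor P f → X.z ∈ P → f X.z ∉ zpowers X.z →
    Nat.card (centralizer {f X.z}) ≤ Nat.card E

theorem map_cen (h : F.Mor P f) (hz : X.z ∈ P) (hx : x ∈ P) : f x ∈ centralizer {f X.z} :=
  mem_centralizer_singleton_iff.2 ((h.commute_iff hx hz).2 (X.z_comm x))

theorem exists_ctx (hF : F.IsSaturated p) (hO : F.core = ⊥) : ∃ E, X.Ctx F E := by
  have hS := X.pg.to_subgroup ⊤
  let T : Set G := {y | ∃ P f, F.Mor P f ∧ X.z ∈ P ∧ f X.z = y ∧ y ∉ zpowers X.z}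
  obtain ⟨y, ⟨P, f, hf, hz, rfl, hy⟩, hm⟩ := T.exists_max_image (fun y => Nat.card (centralizer {y}))
    T.toFinite (by
      by_contra h
      refine X.z_ne (mem_bot.1 (hO.le ((hF.isNormal_of_comm hS (stronglyClosed_iff.2 ⟨le_top,
        fun P f hf x hx k => ?_⟩) fun x _ y k => X.commute_of_mem_Z x k).le_core (mem_zpowers _))))
      obtain ⟨c, rfl⟩ := X.mem_Z.1 k
      by_cases c0 : c = 0
      · rw [c0, pw_zero, hf.map_one]; exact one_mem _
      · have hz := mem_of_pw_mem X.z_pow c0 hx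
        exact (X.mor_Z hf hz (by_contra fun e => h ⟨_, P, f, hf, hz, rfl, e⟩) hx).2 k)
  have zC : ∀ y, X.z ∈ centralizer {y} := fun y => mem_centralizer_singleton_iff.2 (X.z_comm y).symm
  have hM : ∀ y ∉ zpowers X.z, Nat.card (centralizer {f X.z}) ≤ Nat.card (centralizer {y}) → ∀ g,
      F.Mor (normalizerIn ⊤ (centralizer {y})) g → g X.z ∈ zpowers X.z := fun y hy hc g hg => by
    have lt := lt_normalizerIn hS (lt_top_iff_ne_top.2 fun e : centralizer {y} = ⊤ =>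
      hy (X.cen y fun g => mem_centralizer_singleton_iff.1 (e.ge trivial)))
    by_contra k
    exact lt.ne (eq_of_le_of_card_ge lt.le (((hg.card_le fun x => X.map_cen hg (lt.le (zC y))).trans
      (hm _ ⟨_, g, hg, lt.le (zC y), rfl, k⟩)).trans hc))
  obtain ⟨f', h1, h2, -⟩ := (hf.iso_img_of_le (zpowers_le.2 hz)).inv
  obtain ⟨φ, h3, h4⟩ := hF.extend_centralizerIn hS (F.isFullyCentralized_of_le_centralizer le_top
    fun g _ x hx => (X.commute_of_mem_Z g hx).eq.symm) h1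
  replace h3 : F.Mor (centralizer {f X.z}) φ := h3.mono (le_sup_of_le_right fun g hg =>
    ⟨trivial, fun x hx => by
      obtain ⟨w, hw, rfl⟩ := (hf.mem_img (zpowers_le.2 hz)).1 hx
      obtain ⟨c, rfl⟩ := X.mem_Z.1 hw
      rw [hf.map_pw hz]
      exact (Commute.pw_right (mem_centralizer_singleton_iff.1 hg) c).eq.symm⟩)
  have h5 : φ (f X.z) = X.z := (h4 _ (mem_img_of_mem (mem_zpowers _))).trans (h2 _ (mem_zpowers _))
  have h6 : φ X.z ∉ zpowers X.z := fun k =>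
    hy ((X.mor_Z h3 (zC _) k (X.map_cen hf hz hz)).1 (h5.symm ▸ mem_zpowers _))
  have h7 := h3.iso_of_card_le (fun x => X.map_cen h3 (zC _)) (hm _ ⟨_, φ, h3, zC _, rfl, h6⟩)
  obtain ⟨g, g1, g2⟩ := hF.exists_mor_fullyNormalized hS (Q := centralizer {f X.z}) le_top
  have g3 := g1.iso_img_of_le (le_normalizerIn le_top)
  obtain ⟨g', g4, g5⟩ := hF.exists_mor_normalizerIn' hS g2 (h7.isConj.symm.trans g3.isConj)
  have g6 := g5 ▸ g4.iso_img_of_le (le_normalizerIn le_top)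
  obtain ⟨k, k1, k2, k3⟩ := g3.inv
  have zE : X.z ∈ img g (centralizer {f X.z}) := by
    obtain ⟨a, ha⟩ := X.mem_Z.1 (hM _ hy le_rfl g g1)
    exact mem_of_pw_mem X.z_pow (a := a) (fun e => X.z_ne ((g3.mor.eq_one_iff (zC _)).1
      (by simp [ha, e]))) (ha ▸ g3.maps _ (zC _))
  refine ⟨_, hF, g2, zE, ⟨_, g6.comp (h7.comp k1), fun e => ?_⟩, fun P f hf hz e =>
    (hm _ ⟨P, f, hf, hz, rfl, e⟩).trans_eq g3.card_eq⟩
  obtain ⟨c, hc⟩ := X.mem_Z.1 ((X.mor_Z g3.mor (zC _) (hM _ hy le_rfl g g1) (k1.maps _ zE)).1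
    ((k3 _ zE).symm ▸ mem_zpowers _))
  rw [X.mor_Z g6.mor (zC _) (hM _ h6 h7.card_eq.le g' g4) (h7.maps _ (k1.maps _ zE)), hc,
    h3.map_pw (zC _)] at e
  exact X.z_ne ((k1.mor.eq_one_iff zE).1 (by rw [hc, X.eq_zero_of_pw (h3.pow_p (zC _) X.z_pow) h6 e, pw_zero]))

namespace Ctx

variable {X} (H : X.Ctx F E) {α α' : G → G}
include H

theorem cen (h : F.Iso E E α) (k : α X.z ∉ zpowers X.z) : x ∈ E ↔ Commute (α X.z) x := by
  have : E = centralizer {α X.z} := eq_of_le_of_card_ge (fun x hx => by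
    obtain ⟨y, hy, rfl⟩ := h.surj x hx
    exact X.map_cen h.mor H.zE hy) (H.max _ _ h.mor H.zE k)
  rw [this, mem_centralizer_singleton_iff]
  exact ⟨Eq.symm, Eq.symm⟩

theorem inv (h : F.Iso E E α) (k : α X.z ∉ zpowers X.z) : ∃ α', F.Iso E E α' ∧ (∀ x ∈ E, α' (α x) = x) ∧
    (∀ x ∈ E, α (α' x) = x) ∧ α' X.z ∉ zpowers X.z := by
  obtain ⟨α', h1, h2, h3⟩ := h.inv
  exact ⟨α', h1, h2, h3, fun e =>
    k ((X.mor_Z h1.mor H.zE e (h.maps _ H.zE)).1 ((h2 _ H.zE).symm ▸ mem_zpowers _))⟩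

end Ctx

end XS

end Cfsg.Agent.Fus.Xs
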