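import Mathlib
import Cfsg.Agent.Fus.Xs.Setup
import Cfsg.Agent.Fus.Xs.Ident

/-! The case where the centre is conjugate into `Q \ Z(Q)`. -/

set_option autoImplicit false
set_option linter.unusedSectionVars false

namespace Cfsg.Agent.Fus.Xs

open Subgroup Module Cfsg.FusionSystem

variable {p : ℕ} [hp : Fact p.Prime] {G : Type*} [Group G] [Finite G] {V : Type*} [AddCommGroup V]
  [Module (ZMod p) V] {F : FusionSystem (⊤ : Subgroup G)} {E : Subgroup G} {α α' : G → G}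

namespace XS

variable {X : XS p G V}

/-- An inversion of `⟨z, w⟩` forces exponent `p`. -/
theorem π_eq_zero (hF : F.IsSaturated p) {s w : G} (hs : s ∉ X.Q) (hw : w ∈ X.Q)
    (h0 : X.N s (X.bar w) = 0) (hπ : ∀ v, X.β (X.bar w) v = 0 → X.π v = 0)
    (hL : ∀ L : V →ₗ[ZMod p] ZMod p, ∃ v, L v = 0 ∧ X.N s v ≠ 0) {f : G → G} (hf : F.Mor E f)
    (zE : X.z ∈ E) (wE : w ∈ E) (fz : f X.z = pw X.z (-1 : ZMod p)) (fw : f w = pw w (-1 : ZMod p)) :
    X.π = 0 := by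
  let W := X.pre (Submodule.span (ZMod p) {X.bar w})
  have zW : X.z ∈ W := ⟨X.z_mem, X.bar_z ▸ zero_mem _⟩
  have wW : w ∈ W := ⟨hw, Submodule.mem_span_singleton_self _⟩
  have hW : ∀ x ∈ W, ∃ a c : ZMod p, x = pw w a * pw X.z c := fun x hx => by
    obtain ⟨a, e⟩ := Submodule.mem_span_singleton.1 hx.2
    exact ⟨a, X.eq_of_bar (pw_mem hw a) hx.1 ((X.bar_pw hw a).trans e)⟩
  have WE : W ≤ E := fun x hx => by
    obtain ⟨a, c, rfl⟩ := hW x hx
    exact mul_mem (pw_mem wE a) (pw_mem zE c)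
  have cz : ∀ r, ∀ x ∈ W, cm r x ∈ zpowers X.z := fun r x hx => by
    obtain ⟨a, e⟩ := Submodule.mem_span_singleton.1 hx.2
    rw [← X.bar_eq_zero _ (X.cm_mem r x), X.bar_cm r hx.1, ← e, map_smul, X.N_eq_zero hs h0, smul_zero]
  have nW : ∀ r, ∀ x ∈ W, r * x * r⁻¹ ∈ W := fun r x hx =>
    mul_cm r x ▸ mul_mem hx (zpowers_le.2 zW (cz r x hx))
  have fW : ∀ x ∈ W, f x ∈ W := fun x hx => by
    obtain ⟨a, c, rfl⟩ := hW x hx
    rw [hf.map_mul (pw_mem wE a) (pw_mem zE c), hf.map_pw wE, hf.map_pw zE, fz, fw]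
    exact mul_mem (pw_mem (pw_mem wW _) a) (pw_mem (pw_mem zW _) c)
  obtain ⟨g, h1, h2⟩ := X.ext (R := ⊤) hF (F.isFullyNormalized_of_le_normalizer le_top
    fun r _ => mem_normalizer_fintype (nW r)) zW ((hf.mono WE).iso_self fW) (fun x hx _ => (fW x hx).1)
    (fz ▸ pw_mem (mem_zpowers _) _) fun r _ => ⟨nW r, fun x hx _ => cz r x hx⟩
  obtain ⟨τ, hτ⟩ := exists_aut (h1.mono le_sup_right)
  obtain ⟨T, t1, t2, t3, -⟩ := X.exists_bar_aut τ (fun q => X.map_Q τ hL) ((hτ _).trans ((h2 _ zW).trans fz))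
  have t4 : T (X.bar w) = -X.bar w := by rw [t1 w hw, hτ, h2 _ wW, fw, X.bar_pw hw, neg_one_smul]
  obtain ⟨u, hu⟩ := X.exists_rep X.π
  obtain ⟨k, rfl⟩ := X.exists_smul (w := X.bar w) (v := u) fun v e => X.β_symm ((hu v).trans (hπ v (X.β_symm e)))
  ext v
  have := t2 (X.bar w) v
  have k1 := hu v
  have k2 := hu (T v)
  simp only [t4, map_neg, map_smul, LinearMap.neg_apply, LinearMap.smul_apply, smul_eq_mul] at this k1 k2
  exact (mul_eq_zero.1 (by linear_combination t3 v - k1 + k2 + k * this)).resolve_left X.two_ne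

theorem Ctx.caseA (H : X.Ctx F E) (h : F.Iso E E α) (k : α X.z ∉ zpowers X.z) (hw : α X.z ∈ X.Q) :
    Concl p G := by
  obtain ⟨α', h', i1, i2, k'⟩ := H.inv h k
  have hE := fun x => H.cen (x := x) h k
  have wp := h.mor.pow_p H.zE X.z_pow
  have wp' := h'.mor.pow_p H.zE X.z_pow
  have wE := h.maps _ H.zE
  set w := α X.z with ew
  have w0 : X.bar w ≠ 0 := mt (X.bar_eq_zero w hw).1 k
  have hQ : ∀ x ∈ X.Q, X.β (X.bar w) (X.bar x) = 0 → x ∈ E := fun x hx e =>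
    (hE x).2 ((X.commute_iff hw hx).2 e)
  have hQ' : ∀ x ∈ X.Q, x ∈ E → X.β (X.bar w) (X.bar x) = 0 := fun x hx e =>
    (X.commute_iff hw hx).1 ((hE x).1 e)
  have la : AddOn E fun x => X.lam (α' x) := fun x hx y hy => by simp only [h'.mor.map_mul hx hy, lam_mul]
  have lc : ∀ x ∈ E, ∀ y ∈ E, X.lam (α' (cm x y)) = 0 := fun x hx y hy => by
    rw [h'.mor.map_cm hx hy, X.lam_of_mem (X.cm_mem _ _)]
  obtain ⟨a0, a1, b0, b1, aE, bE, ab, hs⟩ : ∃ a ∈ X.Q, ∃ b ∈ X.Q, a ∈ E ∧ b ∈ E ∧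
      X.β (X.bar a) (X.bar b) ≠ 0 ∧ α a ∉ X.Q := by
    obtain ⟨u, v, h1, h2, h3⟩ := X.iso_ker1 (X.β (X.bar w))
    obtain ⟨a, ha, rfl⟩ := X.bar_surj u
    obtain ⟨b, hb, rfl⟩ := X.bar_surj v
    by_contra! e
    have := h.mor.map_cm (hQ a ha h1) (hQ b hb h2)
    rw [X.cm_Q ha hb, h.mor.map_pw H.zE, X.cm_Q (e a ha b hb (hQ a ha h1) (hQ b hb h2) h3)
      (e b hb a ha (hQ b hb h2) (hQ a ha h1) (mt X.β_symm h3))] at this
    exact h3 (X.eq_zero_of_pw wp k (this ▸ pw_mem (mem_zpowers _) _))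
  have lz : X.lam (α' X.z) = 0 := by
    have := lc _ aE _ bE
    rw [X.cm_Q a1 b1, h'.mor.map_pw H.zE, lam_pw] at this
    exact (mul_eq_zero.1 this).resolve_left ab
  obtain ⟨L, hL⟩ := X.exists_lin_sub (H := E) (la.mono inf_le_left) fun x _ hx => by
    obtain ⟨c, rfl⟩ := X.mem_Z.1 hx
    simp only [h'.mor.map_pw H.zE, lam_pw, lz, mul_zero]
  have hA : ∀ u, X.β (X.bar w) u = 0 → L u = 0 → ∃ x ∈ X.Q, x ∈ E ∧ α' x ∈ X.Q ∧ X.bar x = u :=
    fun u h1 h2 => by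
      obtain ⟨x, hx, rfl⟩ := X.bar_surj u
      exact ⟨x, hx, hQ x hx h1, (X.lam_eq_zero _).1 ((hL x (hQ x hx h1) hx).symm.trans h2), rfl⟩
  have iso : ∀ u v, X.β (X.bar w) u = 0 → L u = 0 → X.β (X.bar w) v = 0 → L v = 0 → X.β u v = 0 :=
    fun u v h1 h2 h3 h4 => by
      obtain ⟨x, x1, x2, x3, rfl⟩ := hA u h1 h2
      obtain ⟨y, y1, y2, y3, rfl⟩ := hA v h3 h4
      have := h'.mor.map_cm x2 y2
      rw [X.cm_Q x1 y1, h'.mor.map_pw H.zE, X.cm_Q x3 y3] at this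
      exact X.eq_zero_of_pw wp' k' (this ▸ pw_mem (mem_zpowers _) _)
  have hn := X.iso_ker2 _ _ iso
  have sE := h.maps _ aE
  set s := α a0 with es
  have nA : ∀ x ∈ E, α' x ∈ X.Q → cm s x = pw w (X.β (X.bar a0) (X.bar (α' x))) := fun x hx e => by
    rw [← h.mor.map_pw H.zE, ← X.cm_Q a1 e, h.mor.map_cm aE (h'.maps x hx), i2 x hx]
  obtain ⟨a, ha, i, e⟩ := X.decomp hs (α b0)
  have aE' : a ∈ E := (E.mul_mem_cancel_right (pw_mem sE i)).1 (e ▸ h.maps _ bE)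
  have e1 : α' a = b0 * (pw a0 i)⁻¹ := by
    rw [eq_mul_inv_iff_mul_eq, ← i1 _ bE, e, h'.mor.map_mul aE' (pw_mem sE i), h'.mor.map_pw sE, i1 _ aE]
  have e2 : α' a ∈ X.Q := e1 ▸ mul_mem b1 (inv_mem (pw_mem a1 i))
  have La : L (X.bar a) = 0 := (hL a aE' ha).trans (X.lam_of_mem e2)
  have Lw : L (X.bar w) = 0 := (hL w wE hw).trans (by rw [i1 _ H.zE, X.lam_of_mem X.z_mem])
  have wa := hQ' a ha aE'
  set c := X.β (X.bar a0) (X.bar b0)
  have Na : X.N s (X.bar a) = c • X.bar w := by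
    rw [← X.bar_cm s ha, nA a aE' e2, X.bar_pw hw, e1, X.bar_mul b1 (inv_mem (pw_mem a1 i)),
      X.bar_inv (pw_mem a1 i), X.bar_pw a1]
    simp [X.β_self, c]
  have sw := ((hE s).1 sE).symm
  have Nw := X.N_of_commute hw sw
  have wN := fun u => X.β_symm (X.β_N_of Nw u)
  obtain ⟨y, hy⟩ := X.exists_β_ne w0
  have ea : X.β (X.N s y) (X.bar a) ≠ 0 := fun e => ab (by
    simpa [Na, e, hy, X.β_N_of Nw] using X.β_N s y (X.bar a))
  have Le : L (X.N s y) ≠ 0 := fun e => ea (iso _ _ (wN y) e wa La)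
  have cw : ∀ r x, x ∈ E → r * x * r⁻¹ ∈ E := fun r x hx => by
    obtain ⟨t, e⟩ := X.eq_pz (X.cm_mem r⁻¹ w) ((X.bar_cm _ hw).trans (X.N_eq_zero hs Nw _))
    have : Commute (r⁻¹ * w * r⁻¹⁻¹) x := by rw [← mul_cm, e]; exact ((hE x).1 hx).mul_left (X.zc x t).symm
    simpa [hE, mul_assoc] using this.conj r
  obtain ⟨f, f1, f2, f3, -⟩ := Act.torus (D := fun _ => False) H.zE wE X.z_pow wp (X.z_comm w).symm
    (fun i => by
      obtain ⟨q, hq, e⟩ := X.bar_surj (i • y)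
      refine ⟨_, iso_cj F (cw q), by simp [conj_of_commute (X.z_comm q)], ?_, by simp⟩
      rw [X.comm q hq w hw, e, pw_one, (X.zc w _).eq]; simp [hy])
    (fun j => by
      have hz := (X.lam_eq_zero _).1 lz
      obtain ⟨u, hu⟩ := X.exists_β_ne (mt (X.bar_eq_zero _ hz).1 k')
      obtain ⟨q, hq, e⟩ := X.bar_surj (j • u)
      refine ⟨_, h.comp ((iso_cj F (cw q)).comp h'), ?_, ?_, by simp⟩
      · rw [X.comm q hq _ hz, h.mor.map_mul (h'.maps _ H.zE) (pw_mem H.zE _), i2 _ H.zE,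
          h.mor.map_pw H.zE, e]
        simp [hu, w]
      · simp [w, i1 _ H.zE, conj_of_commute (X.z_comm q)]) (neg_ne_zero.2 one_ne_zero)
  have hπ := π_eq_zero H.sat hs hw Nw (fun v hv => by
      obtain ⟨x, x1, x2, x3, e⟩ := hA (v - (L v / L (X.N s y)) • X.N s y) (by simp [hv, wN]) (by simp [Le])
      have := h'.mor.map_pow x2 p
      rw [X.pow x x1, h'.mor.map_pw H.zE, X.pow _ x3] at this
      simpa [e, X.π_N] using X.eq_zero_of_pw wp' k' (X.mem_Z.2 ⟨_, this⟩))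
    (fun M => by
      by_cases e : M (X.bar a) = 0
      · exact ⟨_, e, by simp [Na, ab, w0]⟩
      · refine ⟨y - (M y / M (X.bar a)) • X.bar a, by simp [e], fun e' => ea ?_⟩
        simpa [Na, wa] using congrArg (X.β.flip (X.bar a)) e')
    f1.mor H.zE wE (by simpa using f2) f3
  have qp : ∀ x ∈ X.Q, x ^ p = 1 := fun x hx => by simp [X.pow x hx, hπ]
  have L2 : ∀ u, L (X.N s (X.N s u)) = 0 := fun u => by
    obtain ⟨x, hx, e⟩ := X.bar_surj (X.N s u)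
    have xE := hQ x hx (e ▸ wN u)
    rw [← e, ← X.bar_cm s hx, hL _ (cm_mem_of sE xE) (X.cm_mem _ _), lc _ sE _ xE]
  by_cases h3 : X.N s (X.N s (X.N s y)) = 0
  swap
  · refine X.concl_TG hs (h.mor.pow_p aE (qp _ a1)) hπ hn h3 fun q hq u e => ?_
    obtain ⟨x, x1, x2, x3, e'⟩ := hA _ (wN _) (L2 u)
    rw [← e', ← X.bar_cm s x1, nA x x2 x3] at e
    exact X.commute_of_bar (pw_mem hw _) hq e.symm (sw.pw_right _)
  have li : ∀ i j k l : ZMod p, i • y + j • X.N s y + k • X.bar a + l • X.bar w = 0 →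
      i = 0 ∧ j = 0 ∧ k = 0 ∧ l = 0 := fun i j k l e => by
    have k1 : i = 0 := by
      simpa [hy, X.β_N_of Nw, X.β_symm wa, X.β_self] using congrArg (X.β.flip (X.bar w)) e
    have k2 : j = 0 := by simpa [k1, ea, wa, X.β_self] using congrArg (X.β.flip (X.bar a)) e
    have k3 : k = 0 := by simpa [k1, k2, Na, Nw, ab, w0] using congrArg (X.N s) e
    simpa [k1, k2, k3, w0] using e
  have n2 : X.N s (X.N s y) = 0 := X.nondeg _ fun u => LinearMap.mem_ker.1 ((eq_top4 hn li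
    (U := LinearMap.ker (X.β.flip _)) (by simpa [X.β_self, X.β_N_of h3] using X.β_N s y (X.N s y))
    (X.β_N_of h3 y) (iso _ _ wa La (wN _) (L2 y)) (wN _)).ge trivial)
  have hk : ∀ v, X.N s v = 0 → ∃ j l : ZMod p, v = j • X.N s y + l • X.bar w := fun v e => by
    obtain ⟨i, j, k, l, rfl⟩ := coord4 hn li v
    have := li 0 i 0 (k * c) (by simpa [n2, Na, Nw, smul_smul] using e)
    exact ⟨j, l, by simp [this.2.1, (mul_eq_zero.1 this.2.2.2).resolve_right ab]⟩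
  obtain ⟨x, hx, ex⟩ := X.bar_surj (X.N s y)
  obtain ⟨j, hj⟩ := X.adjust ha hx (ex ▸ n2) (ex ▸ mt X.β_symm ea)
  have e3 := X.N_mul_right (pw_mem ha j) s
  refine X.concl_TD (s := s * pw a j) (fun e => hs ((X.Q.mul_mem_cancel_right (pw_mem ha j)).1 e)) ?_ hπ hn
    (fun v => ?_) (fun v e => ?_) fun q hq e => ?_
  · have m := h'.maps a aE'
    rw [← i2 a aE', ← h.mor.map_pw m, ← h.mor.map_mul aE (pw_mem m j)]
    exact h.mor.pow_p (mul_mem aE (pw_mem m j)) (qp _ (mul_mem a1 (pw_mem e2 j)))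
  · obtain ⟨i, j, k, l, rfl⟩ := coord4 hn li v
    simp [e3, n2, Na, Nw]
  · obtain ⟨j, l, rfl⟩ := hk v (e3 ▸ e)
    exact ⟨j • y + (l / c) • X.bar a, by simp [e3, Na, smul_smul, ab]⟩
  · obtain ⟨i, l, e⟩ := hk _ (e3 ▸ e)
    exact X.commute_of_bar (mul_mem (pw_mem hx i) (pw_mem hw l)) hq (by
      rw [X.bar_mul (pw_mem hx i) (pw_mem hw l), X.bar_pw hx, X.bar_pw hw, ex, e])
      ((hj.pw_right i).mul_right (((hE _).1 (mul_mem sE (pw_mem aE' j))).symm.pw_right l))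

end XS

end Cfsg.Agent.Fus.Xs
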