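import Mathlib
import Cfsg.Agent.Fus.Xs.Setup
import Cfsg.Agent.Fus.Xs.Ident
import Cfsg.Agent.FG.HallPetresco
import Cfsg.Agent.S0112

/-! The case of a self-centralising subgroup of order `p ^ 2`. -/

set_option autoImplicit false
set_option linter.unusedSectionVars false

namespace Cfsg.Agent.Fus.Xs

open Subgroup Module Cfsg.FusionSystem Cfsg.Agent.GT

variable {p : ℕ} [hp : Fact p.Prime] {G : Type*} [Group G] [Finite G] {V : Type*} [AddCommGroup V]
  [Module (ZMod p) V] {F : FusionSystem (⊤ : Subgroup G)} {E P : Subgroup G} {α f g : G → G}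
  {s w x y : G} {c : ZMod p}

theorem conj_pw_of {r d : G} (h : Commute r d) (e : cm r s = d) (k : ZMod p) :
    pw r k * s * (pw r k)⁻¹ = s * pw d k := by
  rw [pw, pw]
  induction k.val with
  | zero => simp
  | succ n ih =>
    rw [pow_succ', mul_inv_rev, show r * r ^ n * s * ((r ^ n)⁻¹ * r⁻¹) = r * (r ^ n * s * (r ^ n)⁻¹) * r⁻¹ by
      group, ih, ← mul_assoc, mul_assoc _ (d ^ n), (h.pow_right n).inv_left.eq.symm, ← mul_assoc,
      ← mul_cm, e, pow_succ', mul_assoc]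

theorem card_le_cm (R : Subgroup G) {K : Subgroup G} (h : ∀ g ∈ R, cm g y ∈ K) :
    Nat.card R ≤ Nat.card K * Nat.card (centralizer {y}) := by
  let σ := Function.invFun fun g => cm g y
  have e : ∀ g, cm (σ (cm g y)) y = cm g y := fun g => Function.invFun_eq (f := fun g => cm g y) ⟨g, rfl⟩
  rw [← Nat.card_prod]
  refine Nat.card_le_card_of_injective (fun g => (⟨_, h g g.2⟩, ⟨(σ (cm g y))⁻¹ * g,
    mem_centralizer_singleton_iff.2 ?_⟩)) fun g g' k => Subtype.ext ?_
  · rw [mul_assoc, ← inv_mul_cancel_right (g * y) g, ← mul_left_cancel (e g)]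
    group
  · simp only [Prod.mk.injEq, Subtype.mk.injEq] at k
    exact mul_left_cancel (k.2.trans (by rw [k.1]))

namespace XS

variable {X : XS p G V}

theorem N_pow_eq (s : G) (n : ℕ) (v : V) :
    ∃ u, X.N (s ^ n) v = (n : ZMod p) • X.N s v + X.N s (X.N s u) := by
  induction n with
  | zero => exact ⟨0, by simp [N]⟩
  | succ n ih =>
    obtain ⟨u, e⟩ := ih
    refine ⟨u + (n : ZMod p) • v + X.N s u, ?_⟩
    rw [N_apply, pow_succ', map_mul, Module.End.mul_apply, X.ρ_apply (s ^ n), e, X.ρ_apply s]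
    simp only [map_add, map_smul, Nat.cast_succ]
    module

theorem nakayama {U : Submodule (ZMod p) V} (h1 : ∀ u ∈ U, X.N s u ∈ U)
    (h2 : ∀ v, ∃ u ∈ U, ∃ v', v = u + X.N s v') : U = ⊤ := by
  have : ∀ k v, ∃ u ∈ U, ∃ v', v = u + (X.N s ^ k) v' := fun k => by
    induction k with
    | zero => exact fun v => ⟨0, U.zero_mem, v, by simp⟩
    | succ k ih =>
      intro v
      obtain ⟨u, hu, v', rfl⟩ := h2 v
      obtain ⟨u', hu', v'', rfl⟩ := ih v'
      exact ⟨_, U.add_mem hu (h1 u' hu'), v'', by simp [pow_succ', add_assoc]⟩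
  refine eq_top_iff.2 fun v _ => ?_
  obtain ⟨u, hu, v', rfl⟩ := this p v
  simpa [X.N_pow_p] using hu

variable (X s w c) in
/-- An element acting with a single Jordan block and a small centraliser. -/
structure Prl : Prop where
  hs : s ∉ X.Q
  sp : s ^ p = 1
  hw : w ∈ X.Q
  ws : cm w s = pw X.z c
  c0 : c ≠ 0
  ker : ∀ v, X.N s v = 0 → ∃ k : ZMod p, v = k • X.bar w

namespace Prl

variable (D : X.Prl s w c)
include D

theorem Nw (t : G) : X.N t (X.bar w) = 0 :=
  X.N_eq_zero (mt inv_mem_iff.1 D.hs) (by rw [← X.bar_cm' s D.hw, D.ws, bar_pz]) t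

theorem w0 : X.bar w ≠ 0 := fun e => D.c0 (X.pz_eq_one.1 (D.ws.symm.trans
  (cm_eq_one.2 (X.commute_of_mem_Z s ((X.bar_eq_zero w D.hw).1 e)).symm)))

theorem conj (k i : ZMod p) : pw w k * pw s i * (pw w k)⁻¹ = pw s i * pw X.z (c * k * i) := by
  rw [conj_pw, conj_pw_of (X.zc w c) D.ws, mul_pw ((X.zc s c).pw_right k), pw_mul X.z_pow, pw_mul X.z_pow]

theorem exists_N {t : G} (ht : t ∉ X.Q) {v : V} (h : X.β (X.bar w) v = 0) : ∃ u, X.N t u = v :=
  X.exists_N t fun u e => by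
    obtain ⟨k, rfl⟩ := D.ker u (X.N_eq_zero ht e s)
    simp [h]

theorem decomp {u : V} (h : X.β (X.bar w) u ≠ 0) (v : V) : ∃ k : ZMod p, ∃ v', v = k • u + X.N s v' := by
  obtain ⟨v', e⟩ := D.exists_N D.hs (v := v - (X.β (X.bar w) v / X.β (X.bar w) u) • u) (by simp [h])
  exact ⟨_, v', by rw [e, add_sub_cancel]⟩

theorem isConj (hP : P ≠ ⊤) (sP : s ∈ P) (zP : X.z ∈ P) (hy : y ∈ P) (h : y ∉ X.Q) :
    ∃ (g : G) (i : ZMod p), i ≠ 0 ∧ y = pw (g * s * g⁻¹) i := by
  obtain ⟨q, hq, i, e⟩ := X.decomp D.hs y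
  have i0 : i ≠ 0 := fun k => h (by simpa [e, k] using hq)
  have h1 := X.conj_mem (pw s i)⁻¹ hq
  have h2 : (pw s i)⁻¹ * q * (pw s i)⁻¹⁻¹ ∈ P := by
    rw [inv_inv, mul_assoc, ← e]; exact mul_mem (inv_mem (pw_mem sP i)) hy
  obtain ⟨u, hu⟩ := D.exists_N (t := (pw s i)⁻¹) (fun k => D.hs (mem_of_pw_mem D.sp i0 (inv_mem_iff.1 k)))
    (by_contra fun k => hP (X.eq_top D.hs zP sP (nakayama (s := s) (by
      rintro _ ⟨x, x1, x2, rfl⟩
      exact ⟨_, cm_mem_of sP x1, X.cm_mem _ _, X.bar_cm s x2⟩) fun v => by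
      obtain ⟨k, v', e⟩ := D.decomp k v
      exact ⟨_, (X.sub P).smul_mem k ⟨_, h2, h1, rfl⟩, v', e⟩)))
  obtain ⟨x, hx, rfl⟩ := X.bar_surj u
  obtain ⟨j, hj⟩ := X.eq_of_bar (X.cm_mem x _) h1 ((X.bar_cm' _ hx).trans hu)
  refine ⟨x * pw w (j / (c * i)), i, i0, ?_⟩
  rw [← conj_pw, show ∀ a b, x * a * b * (x * a)⁻¹ = x * (a * b * a⁻¹) * x⁻¹ from fun a b => by group,
    D.conj, show c * (j / (c * i)) * i = j by have := D.c0; field_simp, ← mul_assoc, mul_assoc _ (pw _ _),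
    ← (X.zc _ _).eq, ← mul_assoc, ← mul_cm, mul_assoc, ← hj, e]
  group

theorem concl (h : ∀ a : ZMod p, a ≠ 0 → ∃ τ : G ≃* G, τ X.z = pw X.z a⁻¹ ∧ τ s = pw s a)
    (hE : Nat.card E = p ^ 2) (hC : centralizer (E : Set G) = E) : Concl p G := by
  have := X.fin
  have h4 := X.big
  obtain ⟨n, hn⟩ : ∃ n, finrank (ZMod p) V = n + 1 := ⟨finrank (ZMod p) V - 1, by omega⟩
  obtain ⟨v, hv⟩ := X.exists_β_ne D.w0
  have hv' : X.β (X.bar w) v ≠ 0 := by rw [β_swap, hv]; simp
  have n0 : X.N s ^ (n + 1) = 0 := hn ▸ X.N_pow s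
  have n1 : (X.N s ^ n) v ≠ 0 := fun e => by
    have k := finrank_range_le_card (R := ZMod p) fun i : Fin n => (X.N s ^ (i : ℕ)) v
    rw [Set.finrank, nakayama (X := X) (s := s) (U := Submodule.span _ _) (fun u hu => ?_) fun u => ?_] at k
    · simp at k; omega
    · refine Submodule.mem_comap.1 ((Submodule.span_le (p := Submodule.comap (X.N s) _)).2 ?_ hu)
      rintro _ ⟨i, rfl⟩
      change (X.N s * X.N s ^ (i : ℕ)) v ∈ Submodule.span _ _
      rw [← pow_succ']
      by_cases k : i + 1 < n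
      · exact Submodule.subset_span ⟨⟨_, k⟩, rfl⟩
      · rw [show (i : ℕ) + 1 = n by omega, e]; exact zero_mem _
    · obtain ⟨k, v', e⟩ := D.decomp hv' u
      exact ⟨_, Submodule.smul_mem _ k (Submodule.subset_span ⟨⟨0, by omega⟩, rfl⟩), v', e⟩
  obtain ⟨κ, hκ⟩ := D.ker ((X.N s ^ n) v) (by rw [← Module.End.mul_apply, ← pow_succ', n0]; rfl)
  have κ0 : κ ≠ 0 := fun e => n1 (by simp [hκ, e])
  have key : ∀ a : ZMod p, a ≠ 0 → a ^ (n + 3) = 1 ∧ a * X.π v = a⁻¹ * X.π v := fun a ha => by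
    obtain ⟨τ, τz, τs⟩ := h a ha
    have hQ := fun q => X.map_Q (q := q) τ (X.exists_ker fun u v hu hv => by
      obtain ⟨k, rfl⟩ := D.ker u hu
      obtain ⟨l, rfl⟩ := D.ker v hv
      simp [X.β_self])
    obtain ⟨T, t1, t2, t3, t4, -⟩ := X.exists_bar_aut τ hQ τz
    obtain ⟨μ, u, e⟩ := D.decomp hv' (T v)
    have cN : Commute (X.N (pw s a)) (X.N s) :=
      (((Commute.refl s).pw_left a).map X.ρ).sub_left (Commute.one_left _) |>.sub_right (Commute.one_right _)
    have t5 : ∀ k, ∃ u, T ((X.N s ^ k) v) = (μ * a ^ k) • (X.N s ^ k) v + (X.N s ^ (k + 1)) u := fun k => by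
      induction k with
      | zero => exact ⟨u, by simpa using e⟩
      | succ k ih =>
        obtain ⟨u, e⟩ := ih
        obtain ⟨u1, e1⟩ := N_pow_eq (X := X) s a.val v
        obtain ⟨u2, e2⟩ := X.exists_N_apply D.hs (pw s a) u
        refine ⟨(μ * a ^ k) • u1 + u2, ?_⟩
        conv_lhs => rw [pow_succ', Module.End.mul_apply, N_apply, map_sub, t4, τs, ← N_apply, e, map_add,
          map_smul, ← Module.End.mul_apply, ← Module.End.mul_apply _ _ u, (cN.pow_right _).eq,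
          (cN.pow_right _).eq, Module.End.mul_apply, Module.End.mul_apply, ← e2, pw, e1]
        simp only [pow_succ, map_add, map_smul, Module.End.mul_apply, ZMod.natCast_zmod_val]
        module
    obtain ⟨u', e'⟩ := t5 n
    rw [n0, hκ, map_smul, LinearMap.zero_apply, add_zero, smul_comm] at e'
    replace e' := smul_right_injective V κ0 e'
    have k1 := t2 v (X.bar w)
    simp only [e, e', map_add, map_smul, LinearMap.add_apply, LinearMap.smul_apply, hv,
      X.β_N_of (D.Nw s), smul_eq_mul] at k1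
    obtain ⟨j, hj⟩ := X.eq_of_bar (pw_mem D.hw _) (hQ w D.hw) ((X.bar_pw D.hw _).trans
      (e'.symm.trans (t1 w D.hw)))
    have k2 : c * (μ * a ^ n) * a = a⁻¹ * c := by
      have := congrArg τ D.ws
      rw [map_pw, τz, ← pw_mul X.z_pow, cm, map_mul, map_mul, map_mul, map_inv, map_inv, τs, hj,
        mul_inv_rev, mul_assoc (pw w _), mul_assoc (pw w _), ← mul_assoc _ (pw X.z j)⁻¹,
        conj_of_commute (X.zc _ j).symm, ← mul_assoc (pw w _), D.conj, inv_mul_cancel_left] at this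
      exact X.pz_inj.1 this
    have := D.c0
    have k3 : μ * a ^ n * a ^ 2 = 1 := by field_simp at k2; linear_combination k2
    have k4 : μ = a := by field_simp at k1; linear_combination a * k1 - μ * k3
    refine ⟨by rw [← k3, k4]; ring, ?_⟩
    simpa [e, k4, X.π_N] using t3 v
  have hd := (FiniteField.forall_pow_eq_one_iff (ZMod p) (n + 3)).1 fun a =>
    Units.ext (key a a.ne_zero).1
  have np : n < p := by_contra fun k => n1 (by
    rw [pow_eq_zero_of_le (not_lt.1 k) (X.N_pow_p s)]; rfl)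
  have e : p = n + 4 := by
    rw [ZMod.card] at hd
    obtain ⟨k, hk⟩ := hd
    obtain _ | _ | k := k
    · omega
    · omega
    · have : (p - 1) * 2 ≤ n + 3 := hk ▸ Nat.mul_le_mul_left _ (by omega)
      have h3 : p ≠ 4 := by rintro rfl; exact absurd hp.out (by decide)
      omega
  have hπ : X.π = 0 := by
    have h3 : ((3 : ℕ) : ZMod p) ≠ 0 := fun k => by
      have := Nat.le_of_dvd (by simp) ((ZMod.natCast_eq_zero_iff 3 p).1 k)
      omega
    have k := (key 2 X.two_ne).2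
    have := X.two_ne
    field_simp at k
    have k' : X.π v = 0 := (mul_eq_zero.1 (by push_cast; linear_combination k)).resolve_left h3
    ext u
    obtain ⟨k, u', rfl⟩ := D.decomp hv' u
    simp [k', X.π_N]
  have qp : ∀ x ∈ X.Q, x ^ p = 1 := fun x hx => by simp [X.pow x hx, hπ]
  have hG : Nat.card G = p ^ (p - 1) := by rw [X.card, hn, show p - 1 = n + 1 + 2 by omega]
  have hc : Group.nilpotencyClass G = p - 2 := S0112.result _ hG E hE hC
  have ex : ∀ x : G, x ^ p = 1 := fun x => by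
    obtain ⟨q, hq, i, rfl⟩ := X.decomp D.hs x
    have := X.pg.isNilpotent
    simpa [qp q hq, pw_pow_p D.sp] using FG.hall_petresco_mem (mem_top q) (mem_top (pw s i)) p ⊥
      fun k k1 k2 g hg => by
        rcases k2.lt_or_eq with k2 | rfl
        · obtain ⟨m, hm⟩ := hp.out.dvd_choose_self (by omega) k2
          rw [hm, pow_mul, qp g (commutator_le.2 (fun a _ b _ => by
            rw [← X.lam_eq_zero]; simp [commutatorElement_def, lam_mul, lam_inv])
            (Subgroup.lowerCentralSeries_antitone ⊤ (show 1 ≤ k - 1 by omega) hg)), one_pow]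
          exact one_mem _
        · exact pow_mem ((Subgroup.lowerCentralSeries_eq_bot_iff_nilpotencyClass_le.2 (by omega)).le hg) _
  by_cases h7 : n = 3
  · obtain ⟨x, hx, rfl⟩ := X.bar_surj v
    obtain ⟨j, hj⟩ := X.adjust hx D.hw (D.Nw s) (by simp [hv])
    have e3 := X.N_mul_right (pw_mem hx j) s
    refine X.concl_TG (s := s * pw x j) (v := X.bar x)
      (fun e => D.hs ((X.Q.mul_mem_cancel_right (pw_mem hx j)).1 e)) (ex _) hπ (by omega)
      (by simpa [e3, h7, pow_succ] using n1) fun q hq u e => ?_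
    obtain ⟨k, e⟩ := D.ker (X.bar q) (by simpa [e, e3, h7, pow_succ] using LinearMap.congr_fun n0 u)
    exact X.commute_of_bar (pw_mem D.hw k) hq ((X.bar_pw D.hw k).trans e.symm) (hj.pw_right k)
  · refine .inr (.inr (.inr ⟨by_contra fun k => ?_, hG, ex, hc⟩))
    have := hp.out
    have : p = 8 ∨ p = 9 ∨ p = 10 := by omega
    rcases this with rfl | rfl | rfl <;> contradiction

end Prl

theorem Ctx.noTwin (H : X.Ctx F E) (hE : Nat.card E = p ^ 2) (hf : F.Mor P f) (hz : X.z ∈ P)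
    (h : f X.z ∈ X.Q) : f X.z ∈ zpowers X.z := by
  have := X.fin
  by_contra k
  have h1 := (card_le_of_le (inf_le_left (b := X.Q))).trans ((H.max P f hf hz k).trans_eq hE)
  rw [X.card_inf (mem_centralizer_singleton_iff.2 (X.z_comm _).symm),
    Nat.pow_le_pow_iff_right hp.out.one_lt] at h1
  have h2 := Submodule.finrank_mono (show LinearMap.ker (X.β (X.bar (f X.z))) ≤
      X.sub (centralizer {f X.z}) from fun v hv => by
    obtain ⟨x, hx, rfl⟩ := X.bar_surj v
    exact ⟨x, mem_centralizer_singleton_iff.2 ((X.commute_iff h hx).2 hv).symm, hx, rfl⟩)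
  have h3 := (X.β (X.bar (f X.z))).finrank_range_add_finrank_ker
  have h4 := Submodule.finrank_le (LinearMap.range (X.β (X.bar (f X.z))))
  have := X.big
  simp at h4
  omega

theorem Ctx.pearl (H : X.Ctx F E) (h : F.Iso E E α) (D : X.Prl (α X.z) w c)
    (hQ : ∀ q ∈ E, q ∈ X.Q → q ∈ zpowers X.z)
    (tor : ∀ a : ZMod p, a ≠ 0 → ∃ f, F.Iso E E f ∧ f X.z = pw X.z a⁻¹ ∧ f (α X.z) = pw (α X.z) a) :
    Concl p G := by
  have hS := X.pg.to_subgroup ⊤
  have sE := h.maps _ H.zE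
  have k : α X.z ∉ zpowers X.z := fun e => D.hs (X.Z_le e)
  have hE : Nat.card E = p ^ 2 := by
    rw [X.card_of_notMem sE D.hs, show E ⊓ X.Q = zpowers X.z from le_antisymm (fun q hq => hQ q hq.1 hq.2)
      (le_inf (zpowers_le.2 H.zE) X.Z_le), Nat.card_zpowers, orderOf_eq_prime X.z_pow X.z_ne, sq]
  have hC : centralizer (E : Set G) = E := le_antisymm (fun x hx => (H.cen h k).2 (hx _ sE))
    (PG.isMulCommutative_iff_le_centralizer.1 (IsPGroup.isMulCommutative_of_card_eq_prime_sq hE))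
  refine D.concl (fun a ha => ?_) hE hC
  suffices ∀ P, E ≤ P → ∀ g, F.Iso P P g → g X.z ∈ zpowers X.z →
      ∃ τ : G ≃* G, ∀ x ∈ P, τ x = g x by
    obtain ⟨f, f1, f2, f3⟩ := tor a ha
    obtain ⟨τ, hτ⟩ := this E le_rfl f f1 (f2 ▸ pw_mem (mem_zpowers _) _)
    exact ⟨τ, (hτ _ H.zE).trans f2, (hτ _ sE).trans f3⟩
  intro P
  induction P using WellFoundedGT.induction with | _ P ih => ?_
  intro EP g hg gz
  by_cases hP : P = ⊤
  · subst hP
    exact (exists_aut hg.mor).imp fun τ e x _ => e x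
  have zP := EP H.zE
  have sP := EP sE
  have lt := lt_normalizerIn hS (lt_top_iff_ne_top.2 hP)
  obtain ⟨g', g1, g2⟩ := X.ext (R := normalizerIn X.Q P) H.sat ⟨le_top, fun R hR => by
      obtain ⟨f, hf⟩ := hR.exists_iso
      obtain ⟨y, y1, y2, y3⟩ : ∃ y ∈ R, y ∉ X.Q ∧ Nat.card (centralizer {y}) ≤ p ^ 2 := by
        by_cases e : f X.z ∈ zpowers X.z
        · have m := hf.mor.comp h.mor fun x hx => EP (h.maps x hx)
          have e' := mt (X.mor_Z hf.mor zP e sP).1 k
          exact ⟨_, hf.maps _ sP, mt (H.noTwin hE m H.zE) e', hE ▸ H.max _ _ m H.zE e'⟩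
        · exact ⟨_, hf.maps _ zP, mt (H.noTwin hE hf.mor zP) e, hE ▸ H.max _ _ hf.mor zP e⟩
      refine (card_le_cm (K := R ⊓ X.Q) _ fun g hg => ⟨mul_mem (R.inv_mem y1)
        (conj_mem_of_mem_normalizerIn hg y1), X.cm_mem g y⟩).trans ((Nat.mul_le_mul_left _ y3).trans ?_)
      refine le_trans (le_of_eq ?_) (PG.mul_card_le_of_lt (X.pg.to_subgroup _) lt)
      rw [hf.card_eq, X.card_of_notMem y1 y2]; ring⟩ zP hg (fun x xP xQ => by
      by_contra e
      obtain ⟨t, i, i0, e'⟩ := D.isConj hP sP zP (hg.maps x xP) e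
      obtain ⟨g', g1, g2, g3⟩ := hg.inv
      have m := (h.mor.mono (zpowers_le.2 H.zE)).conj_comp (mem_top t)
      have tp := m.pow_p (mem_zpowers _) X.z_pow
      have tP := mem_of_pw_mem tp i0 (e' ▸ hg.maps x xP)
      have m' := g1.mor.comp m fun y hy => by
        obtain ⟨c, rfl⟩ := X.mem_Z.1 hy
        exact (m.map_pw (mem_zpowers _) c).symm ▸ pw_mem tP c
      have := H.noTwin hE m' (mem_zpowers _) (mem_of_pw_mem (g1.mor.pow_p tP tp) i0
        (by rwa [← g1.mor.map_pw tP, ← e', g2 x xP]))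
      rw [← X.mor_Z hg.mor zP gz (g1.maps _ tP), g3 _ tP] at this
      exact D.hs (by simpa [mul_assoc] using X.conj_mem t⁻¹ (X.Z_le this))) gz
    fun r hr => ⟨fun x => conj_mem_of_mem_normalizerIn hr, fun x _ hx => X.mem_Z.2 ⟨_, X.cm_Q hr.1 hx⟩⟩
  replace g1 : F.Mor (normalizerIn ⊤ P) g' := g1.mono fun r hr => by
    obtain ⟨q, hq, i, rfl⟩ := X.decomp D.hs r
    exact mul_mem (mem_sup_right ⟨hq, (mul_mem_cancel_right (le_normalizer (pw_mem sP i))).1 hr.2⟩)
      (mem_sup_left (pw_mem sP i))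
  obtain ⟨τ, hτ⟩ := ih _ lt (EP.trans lt.le) g' (g1.iso_self fun x hx => by
    simpa only [img_congr g2, hg.img_eq] using g1.maps_normalizerIn lt.le hx hx) (g2 _ zP ▸ gz)
  exact ⟨τ, fun x hx => (hτ x (lt.le hx)).trans (g2 x hx)⟩

end XS

end Cfsg.Agent.Fus.Xs
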