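import Mathlib
import Cfsg.Agent.Fus.Xs.Prl

/-! The case where the centre is not conjugate into `Q \ Z(Q)`: generalities and transvections. -/

set_option autoImplicit false
set_option linter.unusedSectionVars false

namespace Cfsg.Agent.Fus.Xs

open Subgroup Module Cfsg.FusionSystem

variable {p : ℕ} [hp : Fact p.Prime] {G : Type*} [Group G] [Finite G] {V : Type*} [AddCommGroup V]
  [Module (ZMod p) V] {F : FusionSystem (⊤ : Subgroup G)} {E : Subgroup G} {α α' β β' : G → G}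
  {r x y : G}

namespace XS

variable {X : XS p G V}

variable (X F E α α') in
/-- The setting of the second case. -/
structure CB : Prop extends X.Ctx F E where
  tw : ∀ β, F.Iso E E β → β X.z ∈ X.Q → β X.z ∈ zpowers X.z
  h : F.Iso E E α
  h' : F.Iso E E α'
  i1 : ∀ x ∈ E, α' (α x) = x
  i2 : ∀ x ∈ E, α (α' x) = x
  k : α X.z ∉ zpowers X.z
  k' : α' X.z ∉ zpowers X.z

namespace CB

variable (B : X.CB F E α α')
include B

theorem symm : X.CB F E α' α := ⟨B.toCtx, B.tw, B.h', B.h, B.i2, B.i1, B.k', B.k⟩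

theorem hs : α X.z ∉ X.Q := mt (B.tw α B.h) B.k

theorem ls : X.lam (α X.z) ≠ 0 := mt (X.lam_eq_zero _).1 B.hs

theorem sp : α X.z ^ p = 1 := B.h.mor.pow_p B.zE X.z_pow

theorem sE : α X.z ∈ E := B.h.maps _ B.zE

theorem mem : x ∈ E ↔ Commute (α X.z) x := B.toCtx.cen B.h B.k

theorem dec (hx : x ∈ E) : ∃ q ∈ E, q ∈ X.Q ∧ x = q * pw (α X.z) (X.lam x / X.lam (α X.z)) := by
  obtain ⟨q, hq, c, e⟩ := X.decomp B.hs x
  refine ⟨q, (E.mul_mem_cancel_right (pw_mem B.sE c)).1 (e ▸ hx), hq, ?_⟩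
  rw [e, lam_mul, lam_pw, X.lam_of_mem hq, zero_add, mul_div_cancel_right₀ _ B.ls]

theorem N_eq (hx : x ∈ E) (h : x ∈ X.Q) (t : G) : X.N t (X.bar x) = 0 :=
  X.N_eq_zero B.hs (X.N_of_commute h (B.mem.1 hx)) t

theorem comm (hx : x ∈ E) (hy : y ∈ E) : Commute x y := by
  have k : ∀ x ∈ E, ∀ y ∈ E, cm x y ∈ zpowers X.z := fun x hx y hy => by
    obtain ⟨q, q1, q2, e⟩ := B.dec hy
    obtain ⟨c, e'⟩ := X.eq_pz (X.cm_mem x q) ((X.bar_cm x q2).trans (B.N_eq q1 q2 x))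
    refine X.mem_Z.2 ⟨c, ?_⟩
    rw [e, cm, inv_mul_eq_iff_eq_mul, ← mul_assoc, mul_assoc _ (pw _ _),
      ((B.mem.1 hx).pw_left _).inv_right.eq, ← mul_assoc, ← mul_cm, e', mul_assoc, mul_assoc,
      (X.zc _ c).eq]
  obtain ⟨c, e⟩ := X.mem_Z.1 (k x hx y hy)
  have := k _ (B.h.maps x hx) _ (B.h.maps y hy)
  rw [← B.h.mor.map_cm hx hy, e, B.h.mor.map_pw B.zE] at this
  rw [← cm_eq_one, e, X.eq_zero_of_pw B.sp B.k this, pw_zero]

theorem pow (hx : x ∈ E) : x ^ p = 1 := by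
  have k : ∀ x ∈ E, x ^ p ∈ zpowers X.z := fun x hx => by
    obtain ⟨q, q1, q2, e⟩ := B.dec hx
    rw [e, (B.comm q1 (pw_mem B.sE _)).mul_pow, pw_pow_p B.sp, mul_one]
    exact X.mem_Z.2 ⟨_, X.pow q q2⟩
  obtain ⟨c, e⟩ := X.mem_Z.1 (k x hx)
  have := k _ (B.h.maps x hx)
  rw [← B.h.mor.map_pow hx, e, B.h.mor.map_pw B.zE] at this
  rw [e, X.eq_zero_of_pw B.sp B.k this, pw_zero]

theorem conj_mem (hr : r ∈ X.Q) (h : cm r (α X.z) ∈ E) : ∀ x ∈ E, r * x * r⁻¹ ∈ E := fun x hx => by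
  obtain ⟨q, q1, q2, e⟩ := B.dec hx
  rw [e, ← conj_mul, conj_pw, X.comm r hr q q2, ← mul_cm]
  exact mul_mem (mul_mem q1 (pw_mem B.zE _)) (pw_mem (mul_mem B.sE h) _)

theorem la_mul (hx : x ∈ E) (hy : y ∈ E) : X.lam (α' (x * y)) = X.lam (α' x) + X.lam (α' y) := by
  rw [B.h'.mor.map_mul hx hy, lam_mul]

theorem la_pw (hx : x ∈ E) (c : ZMod p) : X.lam (α' (pw x c)) = c * X.lam (α' x) := by
  rw [B.h'.mor.map_pw hx, lam_pw]

section T

variable (hr : r ∈ X.Q) (hd : cm r (α X.z) ∈ E) (hc : ∀ q ∈ E, q ∈ X.Q → Commute r q)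
include hr hd hc

theorem transv (h : F.Iso E E β) (h' : F.Iso E E β') (i : ∀ x ∈ E, β (β' x) = x) (k : ZMod p) :
    ∃ f, F.Iso E E f ∧ ∀ x ∈ E,
      f x = x * pw (β (cm r (α X.z))) (k * X.lam (β' x)) := by
  have e : ∀ x ∈ E, pw r (k * X.lam (α X.z)) * x * (pw r (k * X.lam (α X.z)))⁻¹ =
      x * pw (cm r (α X.z)) (k * X.lam x) := fun x hx => by
    obtain ⟨q, q1, q2, e⟩ := B.dec hx
    conv_lhs => rw [e, ← conj_mul, conj_of_commute ((hc q q1 q2).pw_left _), conj_pw,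
      conj_pw_of (hc _ hd (X.cm_mem _ _)) rfl, mul_pw (B.comm B.sE (pw_mem hd _)), ← mul_assoc, ← e,
      ← pw_mul (B.pow hd), mul_assoc, mul_div_cancel₀ _ B.ls]
  exact ⟨_, h.comp ((iso_cj F fun x hx => (e x hx).symm ▸ mul_mem hx (pw_mem hd _)).comp h'),
    fun x hx => by rw [e _ (h'.maps x hx), h.mor.map_mul (h'.maps x hx) (pw_mem hd _), i x hx,
      h.mor.map_pw hd]⟩

theorem lam_ne (hE : r ∉ E) (C : X.CB F E β β') : X.lam (β (cm r (α X.z))) ≠ 0 := fun e => by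
  obtain ⟨f, f1, f2⟩ := B.transv hr hd hc C.h C.h' C.i2 1
  have m := (X.lam_eq_zero _).1 e
  have := B.tw f f1 (f2 _ B.zE ▸ mul_mem X.z_mem (pw_mem m _))
  rw [f2 _ B.zE, mul_mem_cancel_left (mem_zpowers _), one_mul] at this
  obtain ⟨c, hc'⟩ := X.mem_Z.1 (mem_of_pw_mem (B.pow (C.h.maps _ hd)) C.symm.ls this)
  have e' := congrArg β' hc'
  rw [C.i1 _ hd, C.h'.mor.map_pw B.zE] at e'
  have c0 : c = 0 := by simpa [e', lam_pw, C.symm.ls] using X.lam_of_mem (X.cm_mem r (α X.z))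
  exact hE (B.mem.2 (cm_eq_one.1 (by simp [e', c0])).symm)

theorem cm_mem_Z (hE : r ∉ E) : cm r (α X.z) ∈ zpowers X.z := by
  have l1 := B.lam_ne hr hd hc hE B
  have l2 := B.lam_ne hr hd hc hE B.symm
  have t1 := B.transv hr hd hc (F.iso_id le_top) (F.iso_id le_top) fun _ _ => rfl
  have t2 := B.transv hr hd hc B.h B.h' B.i2
  have dQ := X.lam_of_mem (X.cm_mem r (α X.z))
  set d := cm r (α X.z)
  have hd' := B.h.maps d hd
  obtain ⟨f, f1, f2, -, f4⟩ := Act.torus (D := fun x => x ∈ E ∧ X.lam x = 0 ∧ X.lam (α' x) = 0) hd hd'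
    (B.pow hd) (B.pow hd') (B.comm hd hd') (fun i => by
      obtain ⟨f, f1, f2⟩ := t1 (i / X.lam (α d))
      exact ⟨f, f1, by simp [f2 d hd, dQ], by simp [f2 _ hd', l1, (B.comm hd' (pw_mem hd i)).eq],
        fun x hx => by simp [f2 x hx.1, hx.2.1]⟩) (fun j => by
      obtain ⟨f, f1, f2⟩ := t2 (j / X.lam (α' d))
      exact ⟨f, f1, by simp [f2 d hd, l2], by simp [f2 _ hd', B.i1 d hd, dQ],
        fun x hx => by simp [f2 x hx.1, hx.2.2]⟩) (neg_ne_zero.2 one_ne_zero)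
  set a := X.lam (α' X.z) / X.lam (α' d)
  have m := mul_mem B.zE (pw_mem hd (-a))
  have e := f4 _ ⟨m, by simp [lam_mul, lam_pw, dQ, X.lam_of_mem X.z_mem], by
    rw [B.la_mul B.zE (pw_mem hd _), B.la_pw hd]; simp [a, l2]⟩
  rw [f1.mor.map_mul B.zE (pw_mem hd _), f1.mor.map_pw hd, f2, ← pw_mul (B.pow hd),
    ← eq_mul_inv_iff_mul_eq, ← pw_neg (B.pow hd), mul_assoc, ← pw_add (B.pow hd)] at e
  have := B.tw f f1 (e ▸ mul_mem X.z_mem (pw_mem (X.cm_mem _ _) _))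
  rw [e, mul_mem_cancel_left (mem_zpowers _)] at this
  refine mem_of_pw_mem (B.pow hd) (fun k => div_ne_zero B.symm.ls l2 ?_) this
  exact (mul_eq_zero.1 (by simp at k; linear_combination -k)).resolve_left X.two_ne

theorem caseT (hE : r ∉ E) : Concl p G := by
  obtain ⟨c, e⟩ := X.mem_Z.1 (B.cm_mem_Z hr hd hc hE)
  have c0 : c ≠ 0 := fun k => hE (B.mem.2 (cm_eq_one.1 (by simp [e, k])).symm)
  have t1 := B.transv hr hd hc (F.iso_id le_top) (F.iso_id le_top) fun _ _ => rfl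
  have t2 := B.transv hr hd hc B.h B.h' B.i2
  simp only [e, B.h.mor.map_pw B.zE, ← pw_mul X.z_pow, ← pw_mul B.sp] at t1 t2
  have l1 := B.ls
  have l2 := B.symm.ls
  have lz := X.lam_of_mem X.z_mem
  have ls : X.lam (α' (α X.z)) = 0 := by rw [B.i1 _ B.zE, lz]
  have k1 : ∀ x ∈ X.Q, cm x (α X.z) ∈ E → cm x (α X.z) ∈ zpowers X.z := fun x hx h => by
    have dQ := X.cm_mem x (α X.z)
    obtain ⟨f, f1, f2⟩ := t1 ((1 - X.lam (α' (cm x (α X.z)))) / (X.lam (α' X.z) * c * X.lam (α X.z)))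
    obtain ⟨g, g1, g2⟩ := t2 (-c⁻¹)
    have m := mul_mem B.sE h
    have := B.tw _ (g1.comp (f1.comp ((iso_cj F (B.conj_mem hx h)).comp B.h)))
    rw [← mul_cm, f2 _ m, g2 _ (mul_mem m (pw_mem B.zE _)), B.la_mul m (pw_mem B.zE _), B.la_pw B.zE,
      B.la_mul B.sE h, ls, lam_mul, X.lam_of_mem dQ, show ∀ t : ZMod p, c * (-c⁻¹ * (0 + t + c * ((1 - t) /
        (X.lam (α' X.z) * c * X.lam (α X.z)) * (X.lam (α X.z) + 0)) * X.lam (α' X.z))) = -1 from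
        fun t => by field_simp; ring, pw_neg B.sp, pw_one, mul_assoc (α X.z),
      conj_of_commute (B.comm B.sE (mul_mem h (pw_mem B.zE _)))] at this
    exact (mul_mem_cancel_right (pw_mem (mem_zpowers _) _)).1 (this (mul_mem dQ (X.pz_mem _)))
  have k2 : ∀ x ∈ X.Q, X.N (α X.z)⁻¹ (X.bar x) = 0 → ∃ k : ZMod p, pw r k * x ∈ E := fun x hx h => by
    obtain ⟨t, e'⟩ := X.eq_pz (X.cm_mem x _) ((X.bar_cm' _ hx).trans h)
    refine ⟨-t / c, B.mem.2 (Commute.symm (mul_inv_eq_iff_eq_mul.1 ?_))⟩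
    rw [show ∀ a b : G, a * x * b * (a * x)⁻¹ = a * (x * b * x⁻¹) * a⁻¹ from fun a b => by group,
      ← mul_cm x, e', ← conj_mul, conj_z, conj_pw_of (X.zc r c) e, ← pw_mul X.z_pow, mul_assoc, ← pz_add]
    simp [mul_div_cancel₀ _ c0]
  have k3 : ∀ q ∈ E, q ∈ X.Q → q ∈ zpowers X.z := fun q q1 q2 => by
    obtain ⟨u, hu⟩ := X.exists_N (α X.z)⁻¹ (v := X.bar q) fun u hu => by
      obtain ⟨x, hx, rfl⟩ := X.bar_surj u
      obtain ⟨k, hk⟩ := k2 x hx hu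
      simpa [X.bar_mul (pw_mem hr k) hx, X.bar_pw hr, (X.commute_iff hr q2).1 (hc q q1 q2)] using
        (X.commute_iff (mul_mem (pw_mem hr k) hx) q2).1 (B.comm hk q1)
    obtain ⟨x, hx, rfl⟩ := X.bar_surj u
    rw [← X.bar_cm' _ hx] at hu
    rw [← X.bar_eq_zero q q2, ← hu]
    exact X.bar_of_mem (k1 x hx (X.mem_of_bar B.zE q2 (X.cm_mem _ _) hu.symm q1))
  refine B.toCtx.pearl B.h ⟨B.hs, B.sp, hr, e, c0, fun v hv => ?_⟩ k3 fun a ha => ?_
  · obtain ⟨x, hx, rfl⟩ := X.bar_surj v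
    obtain ⟨k, hk⟩ := k2 x hx (X.N_eq_zero B.hs hv _)
    have := X.bar_of_mem (k3 _ hk (mul_mem (pw_mem hr k) hx))
    rw [X.bar_mul (pw_mem hr k) hx, X.bar_pw hr] at this
    exact ⟨-k, by rw [neg_smul, eq_neg_iff_add_eq_zero, add_comm, this]⟩
  · obtain ⟨f, f1, f2, f3, -⟩ := Act.torus (D := fun _ => False) B.zE B.sE X.z_pow B.sp
      (X.z_comm _).symm (fun i => by
        obtain ⟨f, f1, f2⟩ := t1 (i / (c * X.lam (α X.z)))
        refine ⟨f, f1, by simp [f2 _ B.zE, lz], ?_, by simp⟩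
        rw [f2 _ B.sE, pw_one, (X.zc _ _).eq]; congr 2; field_simp) (fun j => by
        obtain ⟨f, f1, f2⟩ := t2 (j / (c * X.lam (α' X.z)))
        refine ⟨f, f1, ?_, by simp [f2 _ B.sE, ls], by simp⟩
        rw [f2 _ B.zE, pw_one]; congr 2; field_simp) ha
    exact ⟨f, f1, f2, f3⟩

end T

end CB

end XS

end Cfsg.Agent.Fus.Xs
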