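import Mathlib
import Cfsg.Agent.Fus.Xs.CaseA
import Cfsg.Agent.Fus.Xs.CaseB

/-! The case of an elementary abelian normal subgroup of order `p ^ 4`, and the final result. -/

set_option autoImplicit false
set_option linter.unusedSectionVars false

namespace Cfsg.Agent.Fus.Xs

open Subgroup Module Cfsg.FusionSystem

variable {p : ℕ} [hp : Fact p.Prime] {G : Type*} [Group G] [Finite G] {V : Type*} [AddCommGroup V]
  [Module (ZMod p) V] {F : FusionSystem (⊤ : Subgroup G)} {E : Subgroup G} {α α' β : G → G}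
  {r x y : G} {u v : V}

namespace XS

variable {X : XS p G V}

namespace CB

variable (B : X.CB F E α α')
  (hN : ∀ r ∈ X.Q, cm r (α X.z) ∈ E → (∀ q ∈ E, q ∈ X.Q → Commute r q) → r ∈ E)
include B

theorem iso (u v : V) (hu : u ∈ X.sub E) (hv : v ∈ X.sub E) : X.β u v = 0 := by
  obtain ⟨x, x1, x2, rfl⟩ := hu
  obtain ⟨y, y1, y2, rfl⟩ := hv
  exact (X.commute_iff x2 y2).1 (B.comm x1 y1)

theorem N_sub (hu : u ∈ X.sub E) (t : G) : X.N t u = 0 := by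
  obtain ⟨x, x1, x2, rfl⟩ := hu
  exact B.N_eq x1 x2 t

include hN

theorem perp (h : ∀ u ∈ X.sub E, X.β v u = 0) : v ∈ X.sub E := by
  have : ∀ k v, (∀ u ∈ X.sub E, X.β v u = 0) → (X.N (α X.z)⁻¹ ^ k) v ∈ X.sub E → v ∈ X.sub E :=
    fun k => by
      induction k with
      | zero => exact fun _ _ h => h
      | succ k ih =>
        intro v h e
        obtain ⟨r, hr, rfl⟩ := X.bar_surj v
        have := ih _ (fun u hu => X.β_N_of (B.N_sub hu _) _) e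
        rw [← X.bar_cm' _ hr, X.bar_mem_sub B.zE (X.cm_mem _ _)] at this
        exact ⟨r, hN r hr this fun q q1 q2 => (X.commute_iff hr q2).2 (h _ ⟨q, q1, q2, rfl⟩), hr, rfl⟩
  exact this p v h (by simp [X.N_pow_p])

theorem N_mem (t : G) (v : V) : X.N t v ∈ X.sub E := B.perp hN fun _ hu => X.β_N_of (B.N_sub hu _) _

theorem cm_mem (hr : r ∈ X.Q) : cm r (α X.z) ∈ E :=
  (X.bar_mem_sub B.zE (X.cm_mem _ _)).1 (X.bar_cm' _ hr ▸ B.N_mem hN _ _)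

theorem cj (hr : r ∈ X.Q) : F.Iso E E fun x => r * x * r⁻¹ := iso_cj F (B.conj_mem hr (B.cm_mem hN hr))

theorem sym (u v : V) : X.β u (X.N (α X.z)⁻¹ v) = X.β v (X.N (α X.z)⁻¹ u) :=
  X.β_N_symm B.hs (fun _ => B.N_sub (B.N_mem hN _ _) _) _ u v

theorem quad : (∀ r ∈ X.Q, 2 * X.lam (α' (cm r (α X.z))) =
      X.lam (α' X.z) * X.β (X.bar r) (X.N (α X.z)⁻¹ (X.bar r))) ∧
    ∀ v ∉ X.sub E, X.β v (X.N (α X.z)⁻¹ v) ≠ 0 := by
  have l2 := B.symm.ls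
  have sy := B.sym hN
  obtain ⟨L, hL⟩ := exists_lin (p := p) X.bar_add X.bar_surj (f := fun r =>
    2 * X.lam (α' (cm r (α X.z))) / X.lam (α' X.z) - X.β (X.bar r) (X.N (α X.z)⁻¹ (X.bar r)))
    (fun x hx y hy => by
      have : cm (x * y) (α X.z) = cm x (α X.z) * (x * cm y (α X.z) * x⁻¹) := by simp only [cm]; group
      simp only [this, X.comm x hx _ (X.cm_mem y _), X.bar_cm' _ hy, X.bar_mul hx hy, map_add,
        B.la_mul (B.cm_mem hN hx) (mul_mem (B.cm_mem hN hy) (pw_mem B.zE _)), LinearMap.add_apply,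
        B.la_mul (B.cm_mem hN hy) (pw_mem B.zE _), B.la_pw B.zE, sy (X.bar y) (X.bar x)]
      field_simp; ring) fun x hx e => by
      simp [e, cm_eq_one.2 (X.commute_of_mem_Z _ ((X.bar_eq_zero x hx).1 e)).symm, B.h'.mor.map_one,
        X.lam_of_mem X.Q.one_mem]
  set M := X.N (α X.z)⁻¹
  have k1 : ∀ v ∉ X.sub E, L v + X.β v (M v) ≠ 0 := fun v hv e => by
    obtain ⟨r, hr, rfl⟩ := X.bar_surj v
    have e' : X.lam (α' (r * α X.z * r⁻¹)) = 0 := by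
      rw [← mul_cm, B.la_mul B.sE (B.cm_mem hN hr), B.i1 _ B.zE, X.lam_of_mem X.z_mem, zero_add]
      simpa [hL r hr, l2, X.two_ne] using e
    obtain ⟨t, ht⟩ := X.mem_Z.1 (B.tw _ (B.h'.comp ((B.cj hN hr).comp B.h)) ((X.lam_eq_zero _).1 e'))
    replace ht := congrArg α ht
    rw [B.i2 _ ((B.cj hN hr).maps _ B.sE), B.h.mor.map_pw B.zE] at ht
    have t1 : t = 1 := by simpa [← ht, lam_conj, B.ls] using (X.lam_pw (α X.z) t).symm
    rw [t1, pw_one, mul_inv_eq_iff_eq_mul] at ht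
    exact hv ⟨r, B.mem.2 ht.symm, hr, rfl⟩
  have k2 : ∀ v, L v ≠ 0 → X.β v (M v) = 0 := fun v h => by_contra fun e =>
    k1 ((-L v / X.β v (M v)) • v) (fun k => e (by
      rw [B.N_sub (((X.sub E).smul_mem_iff (by simp [h, e])).1 k), map_zero])) (by
      simp only [map_smul, LinearMap.smul_apply, smul_eq_mul]; field_simp; ring)
  have k3 : ∀ u, L u = 0 := fun u => by_contra fun h => by
    obtain ⟨v, h1, h2⟩ := X.exists_ker B.iso L
    have a1 := k2 (v + u) (by simpa [h1])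
    have a2 := k2 (v - u) (by simpa [h1])
    simp only [map_add, map_sub, LinearMap.add_apply, LinearMap.sub_apply, k2 u h] at a1 a2
    exact k1 v h2 ((mul_eq_zero.1 (by linear_combination a1 + a2 + 2 * h1)).resolve_left X.two_ne)
  refine ⟨fun r hr => ?_, fun v hv => by simpa [k3] using k1 v hv⟩
  have := (k3 _).symm.trans (hL r hr)
  field_simp at this
  linear_combination -this

theorem exists_N {t : G} (ht : t ∉ X.Q) (hv : v ∈ X.sub E) : ∃ u, X.N t u = v :=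
  X.exists_N t fun u e => B.iso u v (by_contra fun k =>
    (B.quad hN).2 u k (by rw [X.N_eq_zero ht e, map_zero])) hv

theorem univ : finrank (ZMod p) V = 4 ∧ ∀ j, ∃ v, X.β v (X.N (α X.z)⁻¹ v) = j := by
  have an := (B.quad hN).2
  have sy := B.sym hN
  set M := X.N (α X.z)⁻¹
  obtain ⟨a, -, ha⟩ := X.exists_ker B.iso 0
  obtain ⟨b, hb, hb'⟩ := X.exists_ker B.iso (X.β a ∘ₗ M)
  replace hb : X.β a (M b) = 0 := hb
  have k : ∀ u, X.β a (M u) = 0 → X.β b (M u) = 0 → u ∈ X.sub E := fun u h1 h2 => by_contra fun e => by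
    obtain ⟨i, j, h⟩ := X.binary (an a ha) (an b hb') (-X.β u (M u))
    have := B.N_sub (by_contra fun k => an (u + i • a + j • b) k (by
      simp only [map_add, map_smul, LinearMap.add_apply, LinearMap.smul_apply, smul_eq_mul, sy u a,
        sy u b, sy b a, h1, h2, hb]
      linear_combination h)) (α X.z)⁻¹
    have c1 := congrArg (X.β a) this
    have c2 := congrArg (X.β b) this
    simp [M, h1, h2, hb, sy b a, an a ha, an b hb'] at c1 c2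
    exact an u e (by simpa [c1, c2] using h)
  refine ⟨X.iso_ker2 (X.β a ∘ₗ M) (X.β b ∘ₗ M) fun u v h1 h2 h3 h4 => B.iso u v (k u h1 h2) (k v h3 h4),
    fun c => ?_⟩
  obtain ⟨i, j, h⟩ := X.binary (an a ha) (an b hb') c
  refine ⟨i • a + j • b, ?_⟩
  simp only [map_add, map_smul, LinearMap.add_apply, LinearMap.smul_apply, smul_eq_mul, sy b a, hb]
  linear_combination h

theorem form (hy : y ∈ E) (h : y ∉ X.Q) :
    ∃ r ∈ X.Q, ∃ i j : ZMod p, i ≠ 0 ∧ y = pw (r * α X.z * r⁻¹ * pw X.z j) i := by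
  obtain ⟨q, q1, q2, e⟩ := B.dec hy
  have i0 := div_ne_zero (mt (X.lam_eq_zero _).1 h) B.ls
  generalize X.lam y / X.lam (α X.z) = i at e i0
  obtain ⟨u, hu⟩ := B.exists_N hN (mt inv_mem_iff.1 B.hs) ⟨_, pw_mem q1 i⁻¹, pw_mem q2 _, rfl⟩
  obtain ⟨r, hr, rfl⟩ := X.bar_surj u
  obtain ⟨j, hj⟩ := X.eq_of_bar (X.cm_mem r _) (pw_mem q2 _) ((X.bar_cm' _ hr).trans hu)
  refine ⟨r, hr, i, j, i0, ?_⟩
  rw [← mul_cm, mul_assoc, ← hj, mul_pw (B.comm B.sE (pw_mem q1 _)), ← pw_mul (B.pow q1),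
    inv_mul_cancel₀ i0, pw_one, e, (B.comm q1 (pw_mem B.sE i)).eq]

theorem trans (h : F.Iso E E β) (k : β X.z ∉ zpowers X.z) :
    ∃ r ∈ X.Q, ∃ i : ZMod p, β X.z = pw (r * α X.z * r⁻¹) i := by
  obtain ⟨r, hr, i, j, i0, e⟩ := B.form hN (h.maps _ B.zE) (mt (B.tw β h) k)
  obtain ⟨v, hv⟩ := (B.univ hN).2 (-2 * j)
  obtain ⟨t, ht, rfl⟩ := X.bar_surj v
  have m := mul_mem B.sE (mul_mem (B.cm_mem hN ht) (pw_mem B.zE j))
  have e1 : t * (r⁻¹ * β X.z * r⁻¹⁻¹) * t⁻¹ = pw (α X.z * (cm t (α X.z) * pw X.z j)) i := by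
    rw [e, conj_pw, conj_pw, ← mul_assoc (α X.z), mul_cm]
    conv_lhs => rw [← X.conj_z r j]
    conv_rhs => rw [← X.conj_z t j]
    congr 1; group
  have := B.tw _ (B.h'.comp ((B.cj hN ht).comp ((B.cj hN (inv_mem hr)).comp h))) ((X.lam_eq_zero _).1 (by
    rw [e1, B.la_pw m, B.la_mul B.sE (mul_mem (B.cm_mem hN ht) (pw_mem B.zE j)), B.i1 _ B.zE,
      B.la_mul (B.cm_mem hN ht) (pw_mem B.zE j), B.la_pw B.zE, X.lam_of_mem X.z_mem]
    refine (mul_eq_zero.1 ?_).resolve_left X.two_ne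
    linear_combination i * (B.quad hN).1 t ht + i * X.lam (α' X.z) * hv))
  rw [e1, B.h'.mor.map_pw m] at this
  obtain ⟨c, hc⟩ := X.mem_Z.1 (mem_of_pw_mem (B.pow (B.h'.maps _ m)) i0 this)
  replace hc := congrArg α hc
  rw [B.i2 _ m, B.h.mor.map_pw B.zE] at hc
  have m' := mul_mem (X.cm_mem t (α X.z)) (X.pz_mem j)
  have c1 : c = 1 := by simpa [← hc, lam_mul, X.lam_of_mem m', B.ls] using (X.lam_pw (α X.z) c).symm
  rw [c1, pw_one, mul_eq_left] at hc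
  have := X.bar_mul (X.cm_mem t (α X.z)) (X.pz_mem j)
  rw [hc, X.bar_add.one, bar_pz, add_zero, X.bar_cm' _ ht] at this
  have j0 : j = 0 := by simpa [← this, X.two_ne] using hv
  exact ⟨r, hr, i, by simpa [j0] using e⟩

theorem stab (h : F.Iso E E β) (k : β X.z ∈ zpowers X.z) (hu : ∀ v, X.β u v = X.π v)
    (hU : u ∈ X.sub E) (hx : x ∈ E) : β x ∈ X.pre (Submodule.span (ZMod p) {u}) ↔
      x ∈ X.pre (Submodule.span (ZMod p) {u}) := by
  obtain ⟨g, g1, g2⟩ := X.ext (R := X.Q) B.sat B.fn B.zE h (fun x xE xQ => by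
    by_contra e
    obtain ⟨r, hr, i, j, i0, e'⟩ := B.form hN (h.maps x xE) e
    obtain ⟨β', h', b1, b2⟩ := h.inv
    have m := (B.cj hN hr).maps _ B.sE
    have z' := (X.mor_Z h.mor B.zE k (h'.maps _ B.zE)).1 ((b2 _ B.zE).symm ▸ mem_zpowers _)
    have m' := mul_mem m (pw_mem B.zE j)
    rw [← b1 x xE, e', h'.mor.map_pw m'] at xQ
    have := mem_of_pw_mem (B.pow (h'.maps _ m')) i0 xQ
    rw [h'.mor.map_mul m (pw_mem B.zE j), h'.mor.map_pw B.zE,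
      mul_mem_cancel_right (pw_mem (X.Z_le z') j)] at this
    have := X.Z_le ((X.mor_Z h'.mor B.zE z' m).1 (B.tw _ (h'.comp ((B.cj hN hr).comp B.h)) this))
    exact B.hs (by simpa [mul_assoc] using X.conj_mem r⁻¹ this)) k
    fun r hr => ⟨(B.cj hN hr).maps, fun x _ hx => X.mem_Z.2 ⟨_, X.cm_Q hr hx⟩⟩
  obtain ⟨τ, hτ⟩ := exists_aut (g1.mono (Q := ⊤) fun g _ => by
    obtain ⟨q, hq, c, rfl⟩ := X.decomp B.hs g
    exact mul_mem (mem_sup_right hq) (mem_sup_left (pw_mem B.sE c)))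
  have hQ := fun q => X.map_Q (q := q) (s := (α X.z)⁻¹) τ fun L => (X.exists_ker B.iso L).imp
    fun v e => ⟨e.1, fun k => (B.quad hN).2 v e.2 (by rw [k, map_zero])⟩
  obtain ⟨b, -, hb⟩ := X.map_Z τ
  obtain ⟨T, t1, t2, t3, -, t5⟩ := X.exists_bar_aut τ hQ hb
  have Tu : T u = u := sub_eq_zero.1 (X.nondeg _ fun v => X.β_symm (by
    obtain ⟨v, rfl⟩ := t5 v
    rw [map_sub, LinearMap.sub_apply, t2, hu, hu, t3, sub_self]))
  have le : X.pre (Submodule.span (ZMod p) {u}) ≤ E := fun y hy =>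
    (X.bar_mem_sub B.zE hy.1).1 ((Submodule.span_singleton_le_iff_mem _ _).2 hU hy.2)
  have := h.mor.mem_img_iff le hx
  rwa [((h.mor.mono le).iso_self fun y hy => ?_).img_eq] at this
  obtain ⟨c, e⟩ := Submodule.mem_span_singleton.1 hy.2
  rw [← g2 y (le hy), ← hτ]
  exact ⟨hQ y hy.1, Submodule.mem_span_singleton.2 ⟨c, by rw [← t1 y hy.1, ← e, map_smul, Tu]⟩⟩

theorem π_eq : X.π = 0 := by
  obtain ⟨u, hu⟩ := X.exists_rep X.π
  by_contra h0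
  have u0 : u ≠ 0 := fun e => h0 (LinearMap.ext fun v => by simp [← hu, e])
  have hU : u ∈ X.sub E := B.perp hN (by
    rintro _ ⟨x, x1, x2, rfl⟩
    rw [hu, ← X.pz_eq_one, ← X.pow x x2, B.pow x1])
  set W := X.pre (Submodule.span (ZMod p) {u})
  have an := (B.quad hN).2
  have key : ∀ r ∈ X.Q, r ∉ E → ∃ θ, F.Iso E E θ ∧ ∀ x ∈ E,
      (α' (θ x) ∈ W ↔ α' x ∈ W) ∧ (θ x ∈ W ↔ α' (r * x * r⁻¹) ∈ W) := fun r hr hE => by
    have hδ := B.h'.comp ((B.cj hN hr).comp B.h)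
    obtain ⟨t, ht, i, e⟩ := B.trans hN hδ fun k => by
      obtain ⟨c, hc⟩ := X.mem_Z.1 k
      replace hc := congrArg α hc
      rw [B.i2 _ ((B.cj hN hr).maps _ B.sE), B.h.mor.map_pw B.zE] at hc
      have t1 : c = 1 := by simpa [← hc, lam_conj, B.ls] using (X.lam_pw (α X.z) c).symm
      rw [t1, pw_one, mul_inv_eq_iff_eq_mul] at hc
      exact hE (B.mem.2 hc.symm)
    have c' := B.cj hN (inv_mem ht)
    refine ⟨_, c'.comp (B.h'.comp (B.cj hN hr)), fun x hx => ⟨?_, B.stab hN c'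
      ((conj_of_commute (X.z_comm t⁻¹)).symm ▸ mem_zpowers _) hu hU (B.h'.maps _ ((B.cj hN hr).maps x hx))⟩⟩
    simpa only [B.i2 x hx] using B.stab hN (B.h'.comp (c'.comp hδ)) (by
      rw [e, ← conj_pw, show ∀ a, t⁻¹ * (t * a * t⁻¹) * t⁻¹⁻¹ = a from fun a => by group,
        B.h'.mor.map_pw B.sE, B.i1 _ B.zE]
      exact pw_mem (mem_zpowers _) i) hu hU (B.h'.maps x hx)
  obtain ⟨w, w1, w2, ew⟩ := id hU
  obtain ⟨q, q1, q2, e⟩ := B.dec (B.h.maps w w1)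
  generalize X.lam (α w) / X.lam (α X.z) = i at e
  have e1 : α' q = w * pw X.z (-i) := by
    rw [pw_neg X.z_pow, eq_mul_inv_iff_mul_eq, ← B.i1 w w1, e, B.h'.mor.map_mul q1 (pw_mem B.sE i),
      B.h'.mor.map_pw B.sE, B.i1 _ B.zE]
  have e2 : α' q ∈ X.Q := e1 ▸ mul_mem w2 (X.pz_mem _)
  have e3 : X.bar (α' q) = u := by rw [e1, X.bar_mul w2 (X.pz_mem _), bar_pz, add_zero, ew]
  have q0 : X.bar q ≠ 0 := fun k => by
    obtain ⟨c, rfl⟩ := X.eq_pz q2 k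
    rw [B.h'.mor.map_pw B.zE] at e2 e3
    have : c = 0 := by simpa [lam_pw, B.symm.ls] using (X.lam_pw _ c).symm.trans (X.lam_of_mem e2)
    exact u0 (by rw [← e3, this, pw_zero, X.bar_add.one])
  have hW : ∀ x ∈ E, α' x ∈ W → ∃ a b : ZMod p, x = pw q b * pw (α X.z) a := fun x hx k => by
    obtain ⟨b, hb⟩ := Submodule.mem_span_singleton.1 k.2
    obtain ⟨a, ha⟩ := X.eq_of_bar (pw_mem e2 b) k.1 (by rw [X.bar_pw e2, e3, hb])
    exact ⟨a, b, by rw [← B.i2 x hx, ha, ← B.h'.mor.map_pw q1, B.h.mor.map_mul (B.h'.maps _ (pw_mem q1 b))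
      (pw_mem B.zE a), B.i2 _ (pw_mem q1 b), B.h.mor.map_pw B.zE]⟩
  obtain ⟨v, v1, v2⟩ := X.exists_ker B.iso (X.β.flip (X.bar q))
  replace v1 : X.β v (X.bar q) = 0 := v1
  obtain ⟨v', hv'⟩ := B.exists_N hN (mt inv_mem_iff.1 B.hs) ⟨q, q1, q2, rfl⟩
  have v3 : X.β v' (X.bar q) ≠ 0 := hv' ▸ an v' fun k => q0 (hv'.symm.trans (B.N_sub k _))
  obtain ⟨r, hr, er⟩ := X.bar_surj v
  obtain ⟨t, ht, et⟩ := X.bar_surj (v' + v)
  obtain ⟨θ, θ1, θ2⟩ := key r hr fun k => v2 ⟨r, k, hr, er⟩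
  obtain ⟨η, η1, η2⟩ := key t ht fun k => v3 (by
    simpa [et, v1] using B.iso _ _ ⟨t, k, ht, rfl⟩ ⟨q, q1, q2, rfl⟩)
  have qW : α' q ∈ W := ⟨e2, e3 ▸ Submodule.mem_span_singleton_self _⟩
  obtain ⟨x, hx, ex⟩ := η1.surj _ (θ1.maps q q1)
  have x1 : α' x ∈ W := (η2 x hx).1.1 (ex ▸ (θ2 q q1).1.2 qW)
  have x2 : α' (t * x * t⁻¹) ∈ W := (η2 x hx).2.1 (ex ▸ (θ2 q q1).2.2 (by
    rwa [conj_of_commute ((X.commute_iff hr q2).2 (er ▸ v1))]))
  have tE := (B.cj hN ht).maps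
  have cE : ∀ x ∈ E, cm t x ∈ E := fun x hx => mul_mem (inv_mem hx) (tE x hx)
  obtain ⟨a', b', e'⟩ := hW _ (cE x hx) (by
    rw [cm, B.h'.mor.map_mul (inv_mem hx) (tE x hx), B.h'.mor.map_inv hx]
    exact mul_mem (inv_mem x1) x2)
  have a0 : a' = 0 := by
    simpa [e', lam_mul, lam_pw, X.lam_of_mem q2, B.ls] using X.lam_of_mem (X.cm_mem t x)
  obtain ⟨a, b, rfl⟩ := hW x hx x1
  have mc : MulOn E (cm t) := fun x hx y hy => by
    rw [show cm t (x * y) = y⁻¹ * cm t x * (t * y * t⁻¹) by simp only [cm]; group,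
      (B.comm (inv_mem hy) (cE x hx)).eq, mul_assoc]; rfl
  rw [a0, pw_zero, mul_one, mc _ (pw_mem q1 b) _ (pw_mem B.sE a), mc.map_pw q1, mc.map_pw B.sE,
    X.cm_Q ht q2, ← pw_mul X.z_pow] at e'
  have f1 := congrArg (fun y => X.β v (X.bar y)) e'
  simp only [X.bar_mul (X.pz_mem _) (pw_mem (X.cm_mem _ _) a), bar_pz, X.bar_pw (X.cm_mem _ _),
    X.bar_pw q2, X.bar_cm' _ ht, et] at f1
  simp [hv', v1, an v v2] at f1
  have f2 := congrArg (fun y => X.lam (α' y)) e'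
  simp [f1, B.la_pw B.zE, B.la_pw q1, X.lam_of_mem e2, B.symm.ls, et, v1, v3] at f2
  rw [f1, f2, pw_zero, pw_zero, mul_one, η1.mor.map_one, eq_comm, θ1.mor.eq_one_iff q1] at ex
  exact q0 (ex ▸ X.bar_add.one)

theorem caseN : Concl p G :=
  have k : ∀ v, X.N (α X.z) v = 0 → v ∈ X.sub E := fun v e => by_contra fun k =>
    (B.quad hN).2 v k (by rw [X.N_eq_zero B.hs e, map_zero])
  X.concl_TD B.hs B.sp (B.π_eq hN) (B.univ hN).1 (fun _ => B.N_sub (B.N_mem hN _ _) _)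
    (fun v e => B.exists_N hN B.hs (k v e)) fun q hq e => B.mem.1 ((X.bar_mem_sub B.zE hq).1 (k _ e))

end CB

theorem concl (X : XS p G V) (hF : F.IsSaturated p) (hO : F.core = ⊥) : Concl p G := by
  obtain ⟨E, H⟩ := X.exists_ctx hF hO
  by_cases h : ∃ β, F.Iso E E β ∧ β X.z ∈ X.Q ∧ β X.z ∉ zpowers X.z
  · obtain ⟨β, h1, h2, h3⟩ := h
    exact H.caseA h1 h3 h2
  push Not at h
  obtain ⟨α, h1, h2⟩ := H.ex
  obtain ⟨α', h3, h4, h5, h6⟩ := H.inv h1 h2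
  have B : X.CB F E α α' := ⟨H, h, h1, h3, h4, h5, h2, h6⟩
  by_cases k : ∀ r ∈ X.Q, cm r (α X.z) ∈ E → (∀ q ∈ E, q ∈ X.Q → Commute r q) → r ∈ E
  · exact B.caseN k
  push Not at k
  obtain ⟨r, r1, r2, r3, r4⟩ := k
  exact B.caseT r1 r2 r3 r4

end XS

end Cfsg.Agent.Fus.Xs
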